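import Mathlib
import Cfsg.Agent.H325.Same.ExcChar
import Cfsg.Agent.H264.FKS.CharP2

/-!
# S5734: simple groups of Lie type in characteristic `p` in `E7(q)` and `2E6(q)` (helper779)

`charp_e7`, `charp_te6` : as in H325/Same/ExcChar, with the exponents 18, 14, 7 and 18, 12, 8.
-/

set_option autoImplicit false

namespace Cfsg.Agent.H779.Dg

open Cfsg.Agent.OrdDiv Cfsg.Agent.H436 Cfsg.Agent.H915.GN Cfsg.Agent.H264.GN Cfsg.Agent.H264.FKS Cfsg.Agent.H325.Same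

variable {p f c : ℕ} {g : Grp}

theorem elim_e7 (hg : Cond g) (hch : HasChar p g) (h2 : 2 * ag g ≤ 7 * Mg g)
    (h1 : ∃ x, Xg g x ∧ 14 * Mg g ∣ 18 * x) (h3 : ∃ x, Xg g x ∧ 7 * Mg g ∣ 18 * x) : (∃ q, g = .e7 q) ∨ ∃ m q, (m = 9 ∨ m = 10) ∧ g = .psu m q := by
  obtain ⟨x, hx, hxd⟩ := h1
  obtain ⟨y, hy, hyd⟩ := h3
  cases g
  case psl m q =>
    exfalso
    obtain ⟨hm, -, -⟩ := hg
    have hb := bd_psl (ρ := 7) (by omega) h2
    have hx' : 1 ≤ x ∧ x ≤ m := hx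
    have hy' : 1 ≤ y ∧ y ≤ m := hy
    have hxd' : 14 * m ∣ 18 * x := hxd
    have hyd' : 7 * m ∣ 18 * y := hyd
    clear hx hy hxd hyd h2 hch
    interval_cases m <;> omega
  case psp m q =>
    exfalso
    obtain ⟨hm, -, -⟩ := hg
    have hb := bd_psp (ρ := 7) (by omega) h2
    have hx' : 1 ≤ x ∧ x ≤ 2 * m ∧ 2 ∣ x := hx
    have hy' : 1 ≤ y ∧ y ≤ 2 * m ∧ 2 ∣ y := hy
    have hxd' : 14 * (2 * m) ∣ 18 * x := hxd
    have hyd' : 7 * (2 * m) ∣ 18 * y := hyd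
    clear hx hy hxd hyd h2 hch
    interval_cases m <;> omega
  case oodd m q =>
    exfalso
    obtain ⟨hm, -, -⟩ := hg
    have hb := bd_psp (ρ := 7) (by omega) h2
    have hx' : 1 ≤ x ∧ x ≤ 2 * m ∧ 2 ∣ x := hx
    have hy' : 1 ≤ y ∧ y ≤ 2 * m ∧ 2 ∣ y := hy
    have hxd' : 14 * (2 * m) ∣ 18 * x := hxd
    have hyd' : 7 * (2 * m) ∣ 18 * y := hyd
    clear hx hy hxd hyd h2 hch
    interval_cases m <;> omega
  case psu m q =>
    right
    obtain ⟨hm, -, -⟩ := hg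
    have hb := bd_psu (ρ := 7) hm h2
    have hx' : (1 ≤ x ∧ x ≤ m ∧ 2 ∣ x) ∨ ∃ j, x = 2 * j ∧ j ≤ m ∧ j % 2 = 1 := hx
    have hxd' : 14 * (2 * (if m % 2 = 0 then m - 1 else m)) ∣ 18 * x := hxd
    refine ⟨m, q, ?_, rfl⟩
    clear hx hy hxd hyd h2 hch
    rcases hx' with hx' | ⟨j, rfl, hx'⟩ <;> interval_cases m <;>
      simp only [Nat.reduceMod, if_true, if_false, one_ne_zero, Nat.reduceSub, Nat.reduceMul] at hxd' <;> omega
  case oplus m q =>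
    exfalso
    obtain ⟨hm, -⟩ := hg
    have hb := bd_oplus (ρ := 7) (by omega) h2
    have hx' : 1 ≤ x ∧ x ≤ 2 * (m - 1) ∧ (2 ∣ x ∨ x = m) := hx
    have hy' : 1 ≤ y ∧ y ≤ 2 * (m - 1) ∧ (2 ∣ y ∨ y = m) := hy
    have hxd' : 14 * (2 * (m - 1)) ∣ 18 * x := hxd
    have hyd' : 7 * (2 * (m - 1)) ∣ 18 * y := hyd
    clear hx hy hxd hyd h2 hch
    interval_cases m <;> omega
  case ominus m q =>
    exfalso
    obtain ⟨hm, -⟩ := hg
    have hb := bd_ominus (ρ := 7) (by omega) h2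
    have hx' : 1 ≤ x ∧ x ≤ 2 * m ∧ 2 ∣ x := hx
    have hy' : 1 ≤ y ∧ y ≤ 2 * m ∧ 2 ∣ y := hy
    have hxd' : 14 * (2 * m) ∣ 18 * x := hxd
    have hyd' : 7 * (2 * m) ∣ 18 * y := hyd
    clear hx hy hxd hyd h2 hch
    interval_cases m <;> omega
  case g2 q =>
    exfalso
    have hx' : x ∈ [2, 6] := hx
    have hy' : y ∈ [2, 6] := hy
    have hxd' : 14 * 6 ∣ 18 * x := hxd
    have hyd' : 7 * 6 ∣ 18 * y := hyd
    have h2' : 2 * 6 ≤ 7 * 6 := h2
    simp only [List.mem_cons, List.not_mem_nil, or_false] at hx' hy'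
    omega
  case f4 q =>
    exfalso
    have hx' : x ∈ [2, 6, 8, 12] := hx
    have hy' : y ∈ [2, 6, 8, 12] := hy
    have hxd' : 14 * 12 ∣ 18 * x := hxd
    have hyd' : 7 * 12 ∣ 18 * y := hyd
    have h2' : 2 * 24 ≤ 7 * 12 := h2
    simp only [List.mem_cons, List.not_mem_nil, or_false] at hx' hy'
    omega
  case e6 q =>
    exfalso
    have hx' : x ∈ [2, 5, 6, 8, 9, 12] := hx
    have hy' : y ∈ [2, 5, 6, 8, 9, 12] := hy
    have hxd' : 14 * 12 ∣ 18 * x := hxd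
    have hyd' : 7 * 12 ∣ 18 * y := hyd
    have h2' : 2 * 36 ≤ 7 * 12 := h2
    simp only [List.mem_cons, List.not_mem_nil, or_false] at hx' hy'
    omega
  case e7 q => exact Or.inl ⟨q, rfl⟩
  case e8 q =>
    exfalso
    have hx' : x ∈ [2, 8, 12, 14, 18, 20, 24, 30] := hx
    have hy' : y ∈ [2, 8, 12, 14, 18, 20, 24, 30] := hy
    have hxd' : 14 * 30 ∣ 18 * x := hxd
    have hyd' : 7 * 30 ∣ 18 * y := hyd
    have h2' : 2 * 120 ≤ 7 * 30 := h2
    simp only [List.mem_cons, List.not_mem_nil, or_false] at hx' hy'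
    omega
  case te6 q =>
    exfalso
    have hx' : x ∈ [2, 10, 6, 8, 18, 12] := hx
    have hy' : y ∈ [2, 10, 6, 8, 18, 12] := hy
    have hxd' : 14 * 18 ∣ 18 * x := hxd
    have hyd' : 7 * 18 ∣ 18 * y := hyd
    have h2' : 2 * 36 ≤ 7 * 18 := h2
    simp only [List.mem_cons, List.not_mem_nil, or_false] at hx' hy'
    omega
  case td4 q =>
    exfalso
    have hx' : x ∈ [2, 6, 12] := hx
    have hy' : y ∈ [2, 6, 12] := hy
    have hxd' : 14 * 12 ∣ 18 * x := hxd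
    have hyd' : 7 * 12 ∣ 18 * y := hyd
    have h2' : 2 * 12 ≤ 7 * 12 := h2
    simp only [List.mem_cons, List.not_mem_nil, or_false] at hx' hy'
    omega
  case sz q =>
    exfalso
    have hx' : x ∈ [1, 4] := hx
    have hy' : y ∈ [1, 4] := hy
    have hxd' : 14 * 4 ∣ 18 * x := hxd
    have hyd' : 7 * 4 ∣ 18 * y := hyd
    have h2' : 2 * 2 ≤ 7 * 4 := h2
    simp only [List.mem_cons, List.not_mem_nil, or_false] at hx' hy'
    omega
  case ree q =>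
    exfalso
    have hx' : x ∈ [1, 6] := hx
    have hy' : y ∈ [1, 6] := hy
    have hxd' : 14 * 6 ∣ 18 * x := hxd
    have hyd' : 7 * 6 ∣ 18 * y := hyd
    have h2' : 2 * 3 ≤ 7 * 6 := h2
    simp only [List.mem_cons, List.not_mem_nil, or_false] at hx' hy'
    omega
  case tf4 q =>
    exfalso
    have hx' : x ∈ [1, 6, 4, 12] := hx
    have hy' : y ∈ [1, 6, 4, 12] := hy
    have hxd' : 14 * 12 ∣ 18 * x := hxd
    have hyd' : 7 * 12 ∣ 18 * y := hyd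
    have h2' : 2 * 12 ≤ 7 * 12 := h2
    simp only [List.mem_cons, List.not_mem_nil, or_false] at hx' hy'
    omega
  all_goals exact absurd hch not_false

theorem elim_te6 (hg : Cond g) (hch : HasChar p g) (h2 : 2 * ag g ≤ 4 * Mg g)
    (h1 : ∃ x, Xg g x ∧ 12 * Mg g ∣ 18 * x) (h3 : ∃ x, Xg g x ∧ 8 * Mg g ∣ 18 * x) : ∃ q, g = .te6 q := by
  obtain ⟨x, hx, hxd⟩ := h1
  obtain ⟨y, hy, hyd⟩ := h3
  cases g
  case psl m q =>
    exfalso
    obtain ⟨hm, -, -⟩ := hg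
    have hb := bd_psl (ρ := 4) (by omega) h2
    have hx' : 1 ≤ x ∧ x ≤ m := hx
    have hy' : 1 ≤ y ∧ y ≤ m := hy
    have hxd' : 12 * m ∣ 18 * x := hxd
    have hyd' : 8 * m ∣ 18 * y := hyd
    clear hx hy hxd hyd h2 hch
    interval_cases m <;> omega
  case psp m q =>
    exfalso
    obtain ⟨hm, -, -⟩ := hg
    have hb := bd_psp (ρ := 4) (by omega) h2
    have hx' : 1 ≤ x ∧ x ≤ 2 * m ∧ 2 ∣ x := hx
    have hy' : 1 ≤ y ∧ y ≤ 2 * m ∧ 2 ∣ y := hy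
    have hxd' : 12 * (2 * m) ∣ 18 * x := hxd
    have hyd' : 8 * (2 * m) ∣ 18 * y := hyd
    clear hx hy hxd hyd h2 hch
    interval_cases m <;> omega
  case oodd m q =>
    exfalso
    obtain ⟨hm, -, -⟩ := hg
    have hb := bd_psp (ρ := 4) (by omega) h2
    have hx' : 1 ≤ x ∧ x ≤ 2 * m ∧ 2 ∣ x := hx
    have hy' : 1 ≤ y ∧ y ≤ 2 * m ∧ 2 ∣ y := hy
    have hxd' : 12 * (2 * m) ∣ 18 * x := hxd
    have hyd' : 8 * (2 * m) ∣ 18 * y := hyd
    clear hx hy hxd hyd h2 hch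
    interval_cases m <;> omega
  case psu m q =>
    exfalso
    obtain ⟨hm, -, -⟩ := hg
    have hb := bd_psu (ρ := 4) hm h2
    have hx' : (1 ≤ x ∧ x ≤ m ∧ 2 ∣ x) ∨ ∃ j, x = 2 * j ∧ j ≤ m ∧ j % 2 = 1 := hx
    have hy' : (1 ≤ y ∧ y ≤ m ∧ 2 ∣ y) ∨ ∃ j, y = 2 * j ∧ j ≤ m ∧ j % 2 = 1 := hy
    have hxd' : 12 * (2 * (if m % 2 = 0 then m - 1 else m)) ∣ 18 * x := hxd
    have hyd' : 8 * (2 * (if m % 2 = 0 then m - 1 else m)) ∣ 18 * y := hyd
    clear hx hy hxd hyd h2 hch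
    rcases hx' with hx' | ⟨j, rfl, hx'⟩ <;> rcases hy' with hy' | ⟨k, rfl, hy'⟩ <;> interval_cases m <;>
      simp only [Nat.reduceMod, if_true, if_false, one_ne_zero, Nat.reduceSub, Nat.reduceMul] at hxd' hyd' <;> omega
  case oplus m q =>
    exfalso
    obtain ⟨hm, -⟩ := hg
    have hb := bd_oplus (ρ := 4) (by omega) h2
    have hx' : 1 ≤ x ∧ x ≤ 2 * (m - 1) ∧ (2 ∣ x ∨ x = m) := hx
    have hy' : 1 ≤ y ∧ y ≤ 2 * (m - 1) ∧ (2 ∣ y ∨ y = m) := hy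
    have hxd' : 12 * (2 * (m - 1)) ∣ 18 * x := hxd
    have hyd' : 8 * (2 * (m - 1)) ∣ 18 * y := hyd
    clear hx hy hxd hyd h2 hch
    interval_cases m <;> omega
  case ominus m q =>
    exfalso
    obtain ⟨hm, -⟩ := hg
    have hb := bd_ominus (ρ := 4) (by omega) h2
    have hx' : 1 ≤ x ∧ x ≤ 2 * m ∧ 2 ∣ x := hx
    have hy' : 1 ≤ y ∧ y ≤ 2 * m ∧ 2 ∣ y := hy
    have hxd' : 12 * (2 * m) ∣ 18 * x := hxd
    have hyd' : 8 * (2 * m) ∣ 18 * y := hyd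
    clear hx hy hxd hyd h2 hch
    interval_cases m <;> omega
  case g2 q =>
    exfalso
    have hx' : x ∈ [2, 6] := hx
    have hy' : y ∈ [2, 6] := hy
    have hxd' : 12 * 6 ∣ 18 * x := hxd
    have hyd' : 8 * 6 ∣ 18 * y := hyd
    have h2' : 2 * 6 ≤ 4 * 6 := h2
    simp only [List.mem_cons, List.not_mem_nil, or_false] at hx' hy'
    omega
  case f4 q =>
    exfalso
    have hx' : x ∈ [2, 6, 8, 12] := hx
    have hy' : y ∈ [2, 6, 8, 12] := hy
    have hxd' : 12 * 12 ∣ 18 * x := hxd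
    have hyd' : 8 * 12 ∣ 18 * y := hyd
    have h2' : 2 * 24 ≤ 4 * 12 := h2
    simp only [List.mem_cons, List.not_mem_nil, or_false] at hx' hy'
    omega
  case e6 q =>
    exfalso
    have hx' : x ∈ [2, 5, 6, 8, 9, 12] := hx
    have hy' : y ∈ [2, 5, 6, 8, 9, 12] := hy
    have hxd' : 12 * 12 ∣ 18 * x := hxd
    have hyd' : 8 * 12 ∣ 18 * y := hyd
    have h2' : 2 * 36 ≤ 4 * 12 := h2
    simp only [List.mem_cons, List.not_mem_nil, or_false] at hx' hy'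
    omega
  case e7 q =>
    exfalso
    have hx' : x ∈ [2, 6, 8, 10, 12, 14, 18] := hx
    have hy' : y ∈ [2, 6, 8, 10, 12, 14, 18] := hy
    have hxd' : 12 * 18 ∣ 18 * x := hxd
    have hyd' : 8 * 18 ∣ 18 * y := hyd
    have h2' : 2 * 63 ≤ 4 * 18 := h2
    simp only [List.mem_cons, List.not_mem_nil, or_false] at hx' hy'
    omega
  case e8 q =>
    exfalso
    have hx' : x ∈ [2, 8, 12, 14, 18, 20, 24, 30] := hx
    have hy' : y ∈ [2, 8, 12, 14, 18, 20, 24, 30] := hy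
    have hxd' : 12 * 30 ∣ 18 * x := hxd
    have hyd' : 8 * 30 ∣ 18 * y := hyd
    have h2' : 2 * 120 ≤ 4 * 30 := h2
    simp only [List.mem_cons, List.not_mem_nil, or_false] at hx' hy'
    omega
  case te6 q => exact ⟨q, rfl⟩
  case td4 q =>
    exfalso
    have hx' : x ∈ [2, 6, 12] := hx
    have hy' : y ∈ [2, 6, 12] := hy
    have hxd' : 12 * 12 ∣ 18 * x := hxd
    have hyd' : 8 * 12 ∣ 18 * y := hyd
    have h2' : 2 * 12 ≤ 4 * 12 := h2
    simp only [List.mem_cons, List.not_mem_nil, or_false] at hx' hy'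
    omega
  case sz q =>
    exfalso
    have hx' : x ∈ [1, 4] := hx
    have hy' : y ∈ [1, 4] := hy
    have hxd' : 12 * 4 ∣ 18 * x := hxd
    have hyd' : 8 * 4 ∣ 18 * y := hyd
    have h2' : 2 * 2 ≤ 4 * 4 := h2
    simp only [List.mem_cons, List.not_mem_nil, or_false] at hx' hy'
    omega
  case ree q =>
    exfalso
    have hx' : x ∈ [1, 6] := hx
    have hy' : y ∈ [1, 6] := hy
    have hxd' : 12 * 6 ∣ 18 * x := hxd
    have hyd' : 8 * 6 ∣ 18 * y := hyd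
    have h2' : 2 * 3 ≤ 4 * 6 := h2
    simp only [List.mem_cons, List.not_mem_nil, or_false] at hx' hy'
    omega
  case tf4 q =>
    exfalso
    have hx' : x ∈ [1, 6, 4, 12] := hx
    have hy' : y ∈ [1, 6, 4, 12] := hy
    have hxd' : 12 * 12 ∣ 18 * x := hxd
    have hyd' : 8 * 12 ∣ 18 * y := hyd
    have h2' : 2 * 12 ≤ 4 * 12 := h2
    simp only [List.mem_cons, List.not_mem_nil, or_false] at hx' hy'
    omega
  all_goals exact absurd hch not_false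


/-- no prime with exponent 7 divides the order of `PSU_9`, `PSU_10` -/
theorem not_dvd_psu {m q s : ℕ} (hm : m = 9 ∨ m = 10) (hs : Prim q 7 s) : ¬ s ∣ num (.psu m q) := by
  show ¬ s ∣ q ^ (m * (m - 1) / 2) * prU q m
  exact not_dvd_psu_odd hs (by norm_num) (by norm_num) fun i h1 h2 h3 h4 => by omega

/-- **`T = E_7(q)`.** -/
theorem charp_e7 (hp : p.Prime) (hf : 1 ≤ f) (hg : Cond g) (hch : HasChar p g)
    (hc : den g * c = num g) (hdvd : c ∣ num (.e7 (p ^ f)))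
    (hs : HS p f 18 g c) (hs1 : HS p f 14 g c) (hs2 : ∀ s, Prim (p ^ f) 7 s → s ∣ c) :
    g = .e7 (p ^ f) := by
  obtain ⟨f₁, hf₁, hfl, hK, hY⟩ := kd_all hp hg hch hc
  have hT := td_e7 hp hf hdvd
  have hM2 := two_le_Mg hg hch
  have hb := f1_le hp hf₁ hT hK hY hM2 (by omega)
  obtain ⟨h1, h2, h3, h4⟩ := comp hp hf hf₁ hT hK (by omega) (by omega) (fun s h => hs.big hp hf hfl hb h) hY (by
    intro hp2 h6 h5
    omega)
  rcases elim_e7 hg hch (by omega)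
    (h3 14 (by omega) (by omega) fun s h => hs1.big hp hf hfl (f1_le' hM2 h1 (by omega)) h)
    (h3 7 (by omega) (by omega) fun s h => hs2 s (prim_pow hf h)) with ⟨q, rfl⟩ | ⟨m, q, hm, rfl⟩
  · have hq : q = p ^ f₁ := hfl
    have h5 : f₁ * 18 = f * 18 := h1
    rw [hq, Nat.eq_of_mul_eq_mul_right (by omega) h5]
  · exfalso
    have hq : q = p ^ f₁ := hfl
    have h5 : f₁ * 18 = f * 18 := by
      rcases hm with rfl | rfl
      · exact h1
      · exact h1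
    have h6 : f₁ = f := Nat.eq_of_mul_eq_mul_right (by omega) h5
    subst h6
    obtain ⟨s, hsp⟩ := exists_prim (q := p) (e := f₁ * 7) hp.two_le (by omega) (by omega)
    have h7 := hs2 s (prim_pow hf hsp)
    refine not_dvd_psu (q := q) hm (hq ▸ prim_pow hf hsp) (h7.trans ?_)
    rw [← hc]
    exact Nat.dvd_mul_left _ _

/-- **`T = ^2E_6(q)`.** -/
theorem charp_te6 (hp : p.Prime) (hf : 1 ≤ f) (hg : Cond g) (hch : HasChar p g)
    (hc : den g * c = num g) (hdvd : c ∣ num (.te6 (p ^ f)))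
    (hs : HS p f 18 g c) (hs1 : HS p f 12 g c) (hs2 : ∀ s, Prim (p ^ f) 8 s → s ∣ c) :
    g = .te6 (p ^ f) := by
  obtain ⟨f₁, hf₁, hfl, hK, hY⟩ := kd_all hp hg hch hc
  have hT := td_te6 hp hf hdvd
  have hM2 := two_le_Mg hg hch
  have hb := f1_le hp hf₁ hT hK hY hM2 (by omega)
  obtain ⟨h1, h2, h3, h4⟩ := comp hp hf hf₁ hT hK (by omega) (by omega) (fun s h => hs.big hp hf hfl hb h) hY (by
    intro hp2 h6 h5
    omega)
  obtain ⟨q, rfl⟩ := elim_te6 hg hch (by omega)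
    (h3 12 (by omega) (by omega) fun s h => hs1.big hp hf hfl (f1_le' hM2 h1 (by omega)) h)
    (h3 8 (by omega) (by omega) fun s h => hs2 s (prim_pow hf h))
  have hq : q = p ^ f₁ := hfl
  have h5 : f₁ * 18 = f * 18 := h1
  rw [hq, Nat.eq_of_mul_eq_mul_right (by omega) h5]

end Cfsg.Agent.H779.Dg
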