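import Cfsg.Agent.H779.Dg.E8
import Cfsg.Agent.H779.Dg.CharP

/-!
# S5734: `E₆(q)` and `²E₆(q)` (helper779)

`exc_e6`, `exc_te6` : for `T = E₆(q)`, `²E₆(q)` large every proper subgroup `R` of `T` misses a prime power with cyclic
Sylow subgroups.
-/

set_option autoImplicit false

namespace Cfsg.Agent.H779.Dg

open Cfsg Cfsg.Lie Cfsg.Agent.OrdDiv Cfsg.Agent.H436 Cfsg.Agent.H915.GN Cfsg.Agent.H264.FKS Cfsg.Agent.H902
  Cfsg.Agent.H902.Names Cfsg.Agent.H290.ElReg Cfsg.Agent.H290.ElTab Cfsg.Agent.H290.ElCross Cfsg.Agent.H290.ElEng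
  Cfsg.Agent.H290.ElRich Cfsg.Agent.H190.Exc Cfsg.Agent.H325.Loc Cfsg.Agent.H325.IsoExc Cfsg.Agent.H851.Dg

/-- the prime divisors of `q ^ 4 - q ^ 2 + 1` -/
theorem prim_12 {q r N : ℕ} (hr : r.Prime) (hq : 1 ≤ q) (hN : (N : ℤ) = 1 - (q : ℤ) ^ 2 + (q : ℤ) ^ 4) (h : r ∣ N) :
    Prim q 12 r := by
  have hz : ∀ n : ℕ, n ∣ N → (1 - (q : ZMod n) ^ 2 + (q : ZMod n) ^ 4) = 0 := by
    intro n hn
    have h1 := (ZMod.intCast_zmod_eq_zero_iff_dvd (N : ℤ) n).2 (Int.natCast_dvd_natCast.2 hn)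
    rw [hN] at h1
    push_cast at h1
    exact h1
  have h2 : r ≠ 2 := by
    rintro rfl
    have h0 := hz 2 h
    generalize (q : ZMod 2) = x at h0
    revert h0; revert x; decide
  have h3 : r ≠ 3 := by
    rintro rfl
    have h0 := hz 3 h
    generalize (q : ZMod 3) = x at h0
    revert h0; revert x; decide
  have := Fact.mk hr
  have h0 := hz r h
  have e6 : (q : ZMod r) ^ 6 = -1 := by linear_combination ((q : ZMod r) ^ 2 + 1) * h0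
  have hrq : ¬ r ∣ q := fun h4 => by
    have h5 : (q : ZMod r) = 0 := (ZMod.natCast_eq_zero_iff _ _).2 h4
    rw [h5] at h0
    norm_num at h0
  refine prim_of hr hq hrq ?_
  have two0 : (2 : ZMod r) ≠ 0 := fun h4 => h2 ((Nat.prime_dvd_prime_iff_eq hr Nat.prime_two).1
    ((ZMod.natCast_eq_zero_iff 2 r).1 (by exact_mod_cast h4)))
  have three0 : (3 : ZMod r) ≠ 0 := fun h4 => h3 ((Nat.prime_dvd_prime_iff_eq hr Nat.prime_three).1
    ((ZMod.natCast_eq_zero_iff 3 r).1 (by exact_mod_cast h4)))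
  refine orderOf_eq_of_pow_and_pow_div_prime (by norm_num) (by linear_combination ((q : ZMod r) ^ 6 - 1) * e6)
    fun s hs hsd => ?_
  have h5 : s = 2 ∨ s = 3 := by
    have h6 : s ∣ 2 ^ 2 * 3 := hsd
    rcases hs.dvd_mul.1 h6 with h7 | h7
    · exact Or.inl ((Nat.prime_dvd_prime_iff_eq hs Nat.prime_two).1 (hs.dvd_of_dvd_pow h7))
    · exact Or.inr ((Nat.prime_dvd_prime_iff_eq hs Nat.prime_three).1 h7)
  rcases h5 with rfl | rfl
  · norm_num only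
    rw [e6]
    intro h6
    exact two0 (by linear_combination -h6)
  · norm_num only
    intro h6
    apply three0
    linear_combination (2 + (q : ZMod r) ^ 2) * h0 + (-1 - (q : ZMod r) ^ 2) * h6

theorem le_phi12 {q : ℕ} (hq : 2 ≤ q) : q ≤ q ^ 4 - q ^ 2 + 1 := by
  have h1 : q ^ 2 * q ^ 2 = q ^ 4 := by ring
  have h2 : 4 ≤ q ^ 2 := by nlinarith
  have h3 : q ≤ q ^ 2 := Nat.le_self_pow (by norm_num) q
  have h4 : q ^ 2 * 4 ≤ q ^ 2 * q ^ 2 := Nat.mul_le_mul_left _ h2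
  omega

/-- **`E₆(q)`.** -/
theorem exc_e6 : ∃ B : ℕ, ∀ (_ : OrderTable.{0})
    (_ : ∀ (X : Type) [Group X] [Finite X] [IsSimpleGroup X], IsKnownSimple' X) (_ : ASThm.{0}) (_ : RichFix.{0})
    {T : Type} [Group T] [Finite T] {q : ℕ}, IsNamed (.e6 q) T → B ≤ Nat.card T → ∀ R : Subgroup T, R ≠ ⊤ →
    MissC R := by
  obtain ⟨C, hC⟩ := engine
  refine ⟨(∑ i ∈ Finset.range (C + 1), num (.e6 i)) + 1, ?_⟩
  intro OT' hS0 has hrf T _ _ q hT hB R hR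
  apply missC_of_not
  intro hfull
  obtain ⟨p, f, hp, hf, rfl⟩ := (isPrimePow_nat_iff _).1 hT.cond
  obtain ⟨F, _, _, hF, ⟨e⟩⟩ := hT.real
  have hpF := Fact.mk hp
  have hch : CharP F p := charP_of_pow hp hF
  have hq2 : 2 ≤ p ^ f := hF ▸ Fintype.one_lt_card
  have hq1 : 1 ≤ p ^ f := by omega
  have hcard : Nat.gcd 3 (p ^ f - 1) * Nat.card T = num (.e6 (p ^ f)) := hT.eq
  have dv : ∀ {e r : ℕ}, 3 ≤ e → e ∈ [2, 5, 6, 8, 9, 12] → Prim (p ^ f) e r → r ∣ Nat.card T :=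
    fun he hm h => H325.Same.dvd_e6 hT he h hm dvd_rfl
  have hex : ∀ e, 8 ≤ e → ∃ r, Prim (p ^ f) e r := fun e he =>
    exists_prim hq2 (by omega) (by rintro ⟨-, h⟩; omega)
  obtain ⟨ℓ, hℓ⟩ := hex 9 (by norm_num)
  obtain ⟨s, hs⟩ := hex 12 (by norm_num)
  obtain ⟨u, hu⟩ := hex 8 (by norm_num)
  have k9 : ∀ {r}, Prim (p ^ f) 9 r → CC T r ∧ CD T r (((p ^ f) ^ 6 + (p ^ f) ^ 3 + 1) / Nat.gcd 3 (p ^ f - 1)) :=
    fun h => ⟨(e6_9 hF h).1.congr e.symm, (e6_9 hF h).2.congr e.symm⟩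
  have k12 : ∀ {r}, Prim (p ^ f) 12 r → CC T r ∧ CD T r (((p ^ f) ^ 4 - (p ^ f) ^ 2 + 1) * ((p ^ f) ^ 2 + p ^ f + 1)) :=
    fun h => ⟨(e6_12 hF h).1.congr e.symm, (e6_12 hF h).2.congr e.symm⟩
  have k8 : ∀ {r}, Prim (p ^ f) 8 r → CC T r ∧ CD T r (((p ^ f) ^ 4 + 1) * ((p ^ f) ^ 2 - 1)) :=
    fun h => ⟨(e6_8 hF h).1.congr e.symm, (e6_8 hF h).2.congr e.symm⟩
  have c1 := k9 hℓ
  have c2 := k12 hs
  have c3 := k8 hu
  have d1 := dv (by norm_num) (by simp) hℓ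
  have d2 := dv (by norm_num) (by simp) hs
  have d3 := dv (by norm_num) (by simp) hu
  have hls : ℓ ≠ s := by rintro rfl; have := Prim.unique hℓ hs; omega
  have hlu : ℓ ≠ u := by rintro rfl; have := Prim.unique hℓ hu; omega
  have hsu : s ≠ u := by rintro rfl; have := Prim.unique hs hu; omega
  have hle : (p ^ f) ^ 2 ≤ (p ^ f) ^ 4 := Nat.pow_le_pow_right (by omega) (by norm_num)
  have hle1 : 1 ≤ (p ^ f) ^ 2 := Nat.one_le_pow _ _ (by omega)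
  have hdiv : (((p ^ f) ^ 6 + (p ^ f) ^ 3 + 1) / Nat.gcd 3 (p ^ f - 1)) ∣ (p ^ f) ^ 6 + (p ^ f) ^ 3 + 1 := by
    refine Nat.div_dvd_of_dvd ?_
    rcases (Nat.dvd_prime Nat.prime_three).1 (Nat.gcd_dvd_left 3 (p ^ f - 1)) with h4 | h4
    · rw [h4]; exact one_dvd _
    · rw [h4, ← ZMod.natCast_eq_zero_iff]
      have h5 : 3 ∣ p ^ f - 1 := h4 ▸ Nat.gcd_dvd_right 3 (p ^ f - 1)
      have h7 := (ZMod.natCast_eq_zero_iff (p ^ f - 1) 3).2 h5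
      rw [Nat.cast_sub (by omega), Nat.cast_one, sub_eq_zero] at h7
      have h8 : (((p ^ f) ^ 6 + (p ^ f) ^ 3 + 1 : ℕ) : ZMod 3) = ((p ^ f : ℕ) : ZMod 3) ^ 6 +
        ((p ^ f : ℕ) : ZMod 3) ^ 3 + 1 := by push_cast; ring
      rw [h8, h7]
      decide
  obtain ⟨n12, n13, n23⟩ := tri_num (N₁ := ((p ^ f) ^ 6 + (p ^ f) ^ 3 + 1) / Nat.gcd 3 (p ^ f - 1))
    (N₂ := ((p ^ f) ^ 4 - (p ^ f) ^ 2 + 1) * ((p ^ f) ^ 2 + p ^ f + 1)) (N₃ := ((p ^ f) ^ 4 + 1) * ((p ^ f) ^ 2 - 1))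
    (a := ((p ^ f : ℕ) : ℤ)) (fun t ht => by
      have := Int.natCast_dvd_natCast.2 (ht.trans hdiv)
      push_cast at this ⊢
      exact this) (by push_cast [Nat.cast_sub hle]; ring) (by push_cast [Nat.cast_sub hle1]; ring)
  have h2N : ¬ 2 ∣ ((p ^ f) ^ 6 + (p ^ f) ^ 3 + 1) / Nat.gcd 3 (p ^ f - 1) := by
    intro h
    have h1 := h.trans hdiv
    rw [← ZMod.natCast_eq_zero_iff] at h1
    have h8 : (((p ^ f) ^ 6 + (p ^ f) ^ 3 + 1 : ℕ) : ZMod 2) = ((p ^ f : ℕ) : ZMod 2) ^ 6 +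
        ((p ^ f : ℕ) : ZMod 2) ^ 3 + 1 := by push_cast; ring
    rw [h8] at h1
    generalize ((p ^ f : ℕ) : ZMod 2) = x at h1; revert h1; revert x; decide
  have hi : Function.Injective R.subtype := R.subtype_injective
  have f1 := hfull.dvd hℓ.prime d1 c1.1
  have f2 := hfull.dvd hs.prime d2 c2.1
  have f3 := hfull.dvd hu.prime d3 c3.1
  have hF6 : Fth 78 F T := (fth_le (G := chevE6.group F) (by rfl)).congr e.symm
  have hrad : ∀ N : Subgroup R, N.Normal → Group.IsSolvable N → N = ⊥ :=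
    rad_tri (τ := ((chevE6.group F).subtype.comp e.toMonoidHom).comp R.subtype)
      (((chevE6.group F).subtype_injective.comp e.injective).comp hi) (by rfl)
      (no_p_normal ((piso_E6 (p := p) (hF.symm ▸ hℓ)).congr e.symm) f1) hℓ.prime hs.prime hu.prime
      (prim_dvd_sub hℓ hq1) (prim_dvd_sub hs hq1) (prim_dvd_sub hu hq1) hls hlu hsu f1 f2 f3
      ⟨CC.of_inj (ι := R.subtype) hi c1.1, CD.of_inj (ι := R.subtype) hi c1.2⟩
      ⟨CC.of_inj (ι := R.subtype) hi c2.1, CD.of_inj (ι := R.subtype) hi c2.2⟩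
      ⟨CC.of_inj (ι := R.subtype) hi c3.1, CD.of_inj (ι := R.subtype) hi c3.2⟩ (not_three_dvd9 hq1) n12 n13 n23
  have o : ∀ {e r : ℕ}, 3 ≤ e → Prim (p ^ f) e r → r % 2 = 1 := fun he h => Prim.odd h (by omega)
  let P : ℕ → Prop := fun r => Prim (p ^ f) 12 r ∨ Prim (p ^ f) 9 r ∨ Prim (p ^ f) 8 r
  have hP : ∀ r, P r → r.Prime ∧ r ∣ Nat.card R ∧ CC T r := by
    rintro r (h | h | h)
    · exact ⟨h.prime, hfull.dvd h.prime (dv (by norm_num) (by simp) h) (k12 h).1, (k12 h).1⟩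
    · exact ⟨h.prime, hfull.dvd h.prime (dv (by norm_num) (by simp) h) (k9 h).1, (k9 h).1⟩
    · exact ⟨h.prime, hfull.dvd h.prime (dv (by norm_num) (by simp) h) (k8 h).1, (k8 h).1⟩
  have hP8 : ∀ r, P r → 5 ≤ r := by
    rintro r (h | h | h)
    all_goals
      have := prim_gt h hq1
      omega
  obtain ⟨S, hSn, hSs, hSna, hSc, hSP, g, hg, hgc⟩ := hC OT' hS0 has hrf (by norm_num) hp hF6 (P := P) hP
    (by
      obtain ⟨r, s', h1, h2, h3⟩ := gap (P := P) (Or.inr (Or.inl hℓ)) (Or.inl hs) (Or.inr (Or.inr hu))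
        (o (by norm_num) hℓ) (o (by norm_num) hs) (o (by norm_num) hu) hls hlu hsu
      exact ⟨r, s', h1, h2, hP8 r h1, h3⟩)
    hℓ.prime (by have := prim_gt hℓ hq1; omega) f1 (no_two_mul c1.2 h2N) hrad
  rcases hgc with hgc | hgc
  · -- characteristic `p`
    have h := H325.Same.charp_e6 hp hf hg.cond hgc hg.eq (IsNamed.card_dvd hT S)
      (fun s hs _ => hSP s (Or.inl hs))
      (fun s hs _ => hSP s (Or.inr (Or.inl hs)))
      (fun s hs _ => hSP s (Or.inr (Or.inr hs)))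
    subst h
    exact hR (eq_top_of_name hT hg)
  · -- bounded
    have eN : (((p ^ f) ^ 4 - (p ^ f) ^ 2 + 1 : ℕ) : ℤ) = 1 - ((p ^ f : ℕ) : ℤ) ^ 2 + ((p ^ f : ℕ) : ℤ) ^ 4 := by
      push_cast [Nat.cast_sub hle]; ring
    have h1 : (p ^ f) ^ 4 - (p ^ f) ^ 2 + 1 ∣ 1 * Nat.card R := by
      refine hfull.part (m := Nat.gcd 3 (p ^ f - 1)) (k := 1) ?_ (fun r hr hrN => ?_)
        (Nat.gcd_pos_of_pos_left _ (by norm_num)).ne' (by norm_num)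
      · rw [hcard]
        have hd : (p ^ f) ^ 4 - (p ^ f) ^ 2 + 1 ∣ (p ^ f) ^ 12 - 1 := by
          have h5 : (((p ^ f) ^ 4 - (p ^ f) ^ 2 + 1 : ℕ) : ℤ) ∣ (((p ^ f) ^ 12 - 1 : ℕ) : ℤ) := by
            rw [Nat.cast_sub (Nat.one_le_pow _ _ hq1), eN]
            exact ⟨(((p ^ f : ℕ) : ℤ) ^ 6 - 1) * (((p ^ f : ℕ) : ℤ) ^ 2 + 1), by push_cast; ring⟩
          exact_mod_cast h5
        show (p ^ f) ^ 4 - (p ^ f) ^ 2 + 1 ∣ (p ^ f) ^ 36 * (((p ^ f) ^ 2 - 1) * ((p ^ f) ^ 5 - 1) *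
          ((p ^ f) ^ 6 - 1) * ((p ^ f) ^ 8 - 1) * ((p ^ f) ^ 9 - 1) * ((p ^ f) ^ 12 - 1))
        exact (hd.mul_left _).mul_left _
      · have h := prim_12 hr hq1 eN hrN
        refine Or.inl ⟨fun h3 => ?_, (k12 h).1⟩
        have h4 := Nat.le_of_dvd (by norm_num) (h3.trans (Nat.gcd_dvd_left _ _))
        have h5 := prim_gt h hq1
        omega
    have h2 : (p ^ f) ^ 4 - (p ^ f) ^ 2 + 1 ≤ C := by
      have := Nat.le_of_dvd (by have : 0 < Nat.card R := Nat.card_pos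
                                omega) h1
      omega
    have h3 : p ^ f ≤ (p ^ f) ^ 4 - (p ^ f) ^ 2 + 1 := le_phi12 hq2
    have h4 : num (.e6 (p ^ f)) ≤ ∑ i ∈ Finset.range (C + 1), num (.e6 i) :=
      Finset.single_le_sum (f := fun i => num (.e6 i)) (fun _ _ => Nat.zero_le _) (Finset.mem_range.2 (by omega))
    have h5 : Nat.card T ≤ Nat.gcd 3 (p ^ f - 1) * Nat.card T :=
      Nat.le_mul_of_pos_left _ (Nat.gcd_pos_of_pos_left _ (by norm_num))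
    omega

/-- **`²E₆(q)`.** -/
theorem exc_te6 : ∃ B : ℕ, ∀ (_ : OrderTable.{0})
    (_ : ∀ (X : Type) [Group X] [Finite X] [IsSimpleGroup X], IsKnownSimple' X) (_ : ASThm.{0}) (_ : RichFix.{0})
    {T : Type} [Group T] [Finite T] {q : ℕ}, IsNamed (.te6 q) T → B ≤ Nat.card T → ∀ R : Subgroup T, R ≠ ⊤ →
    MissC R := by
  obtain ⟨C, hC⟩ := engine
  refine ⟨(∑ i ∈ Finset.range (C + 1), num (.te6 i)) + 1, ?_⟩
  intro OT' hS0 has hrf T _ _ q hT hB R hR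
  apply missC_of_not
  intro hfull
  have hq : IsPrimePow q := hT.cond
  obtain ⟨p, f, hp', hf, hpf⟩ := id hq
  have hp : p.Prime := hp'.nat_prime
  have := Fact.mk hp
  subst hpf
  obtain ⟨K, _, _, hK, ⟨e⟩⟩ := hT.real
  have hch : CharP K p := H290.ElReg.charP_of_pow hp (a := f * 2) (by rw [hK, ← pow_mul])
  have hq1 : 1 ≤ p ^ f := Nat.one_le_pow _ _ hp.pos
  have hq2 : 2 ≤ p ^ f := hq.two_le
  have hcard : Nat.gcd 3 (p ^ f + 1) * Nat.card T = num (.te6 (p ^ f)) := hT.eq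
  have dv : ∀ {e r : ℕ}, 3 ≤ e → (e ∣ 6 ∨ e ∣ 8 ∨ e ∣ 12 ∨ e = 10 ∨ e = 18) → Prim (p ^ f) e r →
      r ∣ Nat.card T := fun he hm h => H325.Same.dvd_te6 hT he h hm
  have hex : ∀ e, 8 ≤ e → ∃ r, Prim (p ^ f) e r := fun e he =>
    exists_prim hq2 (by omega) (by rintro ⟨-, h⟩; omega)
  obtain ⟨ℓ, hℓ⟩ := hex 18 (by norm_num)
  obtain ⟨s, hs⟩ := hex 12 (by norm_num)
  obtain ⟨u, hu⟩ := hex 8 (by norm_num)
  have k18 : ∀ {r}, Prim (p ^ f) 18 r → CC T r ∧ CD T r (((p ^ f) ^ 6 - (p ^ f) ^ 3 + 1) / Nat.gcd 3 (p ^ f + 1)) :=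
    fun h => ⟨(te6_18 hq hK h).1.congr e.symm, (te6_18 hq hK h).2.congr e.symm⟩
  have k12 : ∀ {r}, Prim (p ^ f) 12 r → CC T r ∧ CD T r (((p ^ f) ^ 4 - (p ^ f) ^ 2 + 1) * ((p ^ f) ^ 2 - p ^ f + 1)) :=
    fun h => ⟨(te6_12 hq hK h).1.congr e.symm, (te6_12 hq hK h).2.congr e.symm⟩
  have k8 : ∀ {r}, Prim (p ^ f) 8 r → CC T r ∧ CD T r (((p ^ f) ^ 4 + 1) * ((p ^ f) ^ 2 - 1)) :=
    fun h => ⟨(te6_8 hq hK h).1.congr e.symm, (te6_8 hq hK h).2.congr e.symm⟩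
  have c1 := k18 hℓ
  have c2 := k12 hs
  have c3 := k8 hu
  have d1 := dv (by norm_num) (by norm_num) hℓ
  have d2 := dv (by norm_num) (by norm_num) hs
  have d3 := dv (by norm_num) (by norm_num) hu
  have hls : ℓ ≠ s := by rintro rfl; have := Prim.unique hℓ hs; omega
  have hlu : ℓ ≠ u := by rintro rfl; have := Prim.unique hℓ hu; omega
  have hsu : s ≠ u := by rintro rfl; have := Prim.unique hs hu; omega
  have hle : (p ^ f) ^ 2 ≤ (p ^ f) ^ 4 := Nat.pow_le_pow_right (by omega) (by norm_num)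
  have hle3 : (p ^ f) ^ 3 ≤ (p ^ f) ^ 6 := Nat.pow_le_pow_right (by omega) (by norm_num)
  have hleq : p ^ f ≤ (p ^ f) ^ 2 := Nat.le_self_pow (by norm_num) _
  have hle1 : 1 ≤ (p ^ f) ^ 2 := Nat.one_le_pow _ _ (by omega)
  have hz : ∀ n : ℕ, (((p ^ f) ^ 6 - (p ^ f) ^ 3 + 1 : ℕ) : ZMod n) = ((p ^ f : ℕ) : ZMod n) ^ 6 -
      ((p ^ f : ℕ) : ZMod n) ^ 3 + 1 := fun n => by
    rw [Nat.cast_add, Nat.cast_sub hle3]; push_cast; ring
  have hdiv : (((p ^ f) ^ 6 - (p ^ f) ^ 3 + 1) / Nat.gcd 3 (p ^ f + 1)) ∣ (p ^ f) ^ 6 - (p ^ f) ^ 3 + 1 := by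
    refine Nat.div_dvd_of_dvd ?_
    rcases (Nat.dvd_prime Nat.prime_three).1 (Nat.gcd_dvd_left 3 (p ^ f + 1)) with h4 | h4
    · rw [h4]; exact one_dvd _
    · rw [h4, ← ZMod.natCast_eq_zero_iff, hz]
      have h5 : 3 ∣ p ^ f + 1 := h4 ▸ Nat.gcd_dvd_right 3 (p ^ f + 1)
      have h7 := (ZMod.natCast_eq_zero_iff (p ^ f + 1) 3).2 h5
      rw [Nat.cast_add, Nat.cast_one] at h7
      rw [eq_neg_of_add_eq_zero_left h7]
      decide
  obtain ⟨n12, n13, n23⟩ := tri_num (N₁ := ((p ^ f) ^ 6 - (p ^ f) ^ 3 + 1) / Nat.gcd 3 (p ^ f + 1))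
    (N₂ := ((p ^ f) ^ 4 - (p ^ f) ^ 2 + 1) * ((p ^ f) ^ 2 - p ^ f + 1)) (N₃ := ((p ^ f) ^ 4 + 1) * ((p ^ f) ^ 2 - 1))
    (a := -((p ^ f : ℕ) : ℤ)) (fun t ht => by
      have h1 := Int.natCast_dvd_natCast.2 (ht.trans hdiv)
      have h2 : (((p ^ f) ^ 6 - (p ^ f) ^ 3 + 1 : ℕ) : ℤ) = (-((p ^ f : ℕ) : ℤ)) ^ 6 + (-((p ^ f : ℕ) : ℤ)) ^ 3 + 1 := by
        rw [Nat.cast_add, Nat.cast_sub hle3]; push_cast; ring
      rwa [h2] at h1) (by push_cast [Nat.cast_sub hle, Nat.cast_sub hleq]; ring)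
    (by push_cast [Nat.cast_sub hle1]; ring)
  have h2N : ¬ 2 ∣ ((p ^ f) ^ 6 - (p ^ f) ^ 3 + 1) / Nat.gcd 3 (p ^ f + 1) := by
    intro h
    have h1 := h.trans hdiv
    rw [← ZMod.natCast_eq_zero_iff, hz] at h1
    generalize ((p ^ f : ℕ) : ZMod 2) = x at h1; revert h1; revert x; decide
  have hi : Function.Injective R.subtype := R.subtype_injective
  have f1 := hfull.dvd hℓ.prime d1 c1.1
  have f2 := hfull.dvd hs.prime d2 c2.1
  have f3 := hfull.dvd hu.prime d3 c3.1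
  have hF6 : Fth 78 K T := (fth_le (G := twistedE6 K (p ^ f)) (by rfl)).congr e.symm
  have hrad : ∀ N : Subgroup R, N.Normal → Group.IsSolvable N → N = ⊥ :=
    rad_tri (τ := ((twistedE6 K (p ^ f)).subtype.comp e.toMonoidHom).comp R.subtype)
      (((twistedE6 K (p ^ f)).subtype_injective.comp e.injective).comp hi) (by rfl)
      (no_p_normal ((piso_twE6 (p := p) hq hK (d := 18) (Or.inr rfl) hℓ).congr e.symm) f1) hℓ.prime hs.prime
      hu.prime ((by norm_num : 9 ∣ 18).trans (prim_dvd_sub hℓ hq1)) (prim_dvd_sub hs hq1)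
      (prim_dvd_sub hu hq1) hls hlu hsu f1 f2 f3
      ⟨CC.of_inj (ι := R.subtype) hi c1.1, CD.of_inj (ι := R.subtype) hi c1.2⟩
      ⟨CC.of_inj (ι := R.subtype) hi c2.1, CD.of_inj (ι := R.subtype) hi c2.2⟩
      ⟨CC.of_inj (ι := R.subtype) hi c3.1, CD.of_inj (ι := R.subtype) hi c3.2⟩ (not_three_dvd18 hq1) n12 n13 n23
  have o : ∀ {e r : ℕ}, 3 ≤ e → Prim (p ^ f) e r → r % 2 = 1 := fun he h => Prim.odd h (by omega)
  let P : ℕ → Prop := fun r => Prim (p ^ f) 18 r ∨ Prim (p ^ f) 12 r ∨ Prim (p ^ f) 8 r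
  have hP : ∀ r, P r → r.Prime ∧ r ∣ Nat.card R ∧ CC T r := by
    rintro r (h | h | h)
    · exact ⟨h.prime, hfull.dvd h.prime (dv (by norm_num) (by norm_num) h) (k18 h).1, (k18 h).1⟩
    · exact ⟨h.prime, hfull.dvd h.prime (dv (by norm_num) (by norm_num) h) (k12 h).1, (k12 h).1⟩
    · exact ⟨h.prime, hfull.dvd h.prime (dv (by norm_num) (by norm_num) h) (k8 h).1, (k8 h).1⟩
  have hP8 : ∀ r, P r → 5 ≤ r := by
    rintro r (h | h | h)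
    all_goals
      have := prim_gt h hq1
      omega
  obtain ⟨S, hSn, hSs, hSna, hSc, hSP, g, hg, hgc⟩ := hC OT' hS0 has hrf (by norm_num) hp hF6 (P := P) hP
    (by
      obtain ⟨r, s', h1, h2, h3⟩ := gap (P := P) (Or.inl hℓ) (Or.inr (Or.inl hs)) (Or.inr (Or.inr hu))
        (o (by norm_num) hℓ) (o (by norm_num) hs) (o (by norm_num) hu) hls hlu hsu
      exact ⟨r, s', h1, h2, hP8 r h1, h3⟩)
    hℓ.prime (by have := prim_gt hℓ hq1; omega) f1 (no_two_mul c1.2 h2N) hrad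
  rcases hgc with hgc | hgc
  · -- characteristic `p`
    have h := charp_te6 hp (Nat.pos_of_ne_zero hf.ne') hg.cond hgc hg.eq (IsNamed.card_dvd hT S)
      (fun s hs _ => hSP s (Or.inl hs))
      (fun s hs _ => hSP s (Or.inr (Or.inl hs)))
      (fun s hs => hSP s (Or.inr (Or.inr hs)))
    subst h
    exact hR (eq_top_of_name hT hg)
  · -- bounded
    have eN : (((p ^ f) ^ 4 - (p ^ f) ^ 2 + 1 : ℕ) : ℤ) = 1 - ((p ^ f : ℕ) : ℤ) ^ 2 + ((p ^ f : ℕ) : ℤ) ^ 4 := by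
      push_cast [Nat.cast_sub hle]; ring
    have h1 : (p ^ f) ^ 4 - (p ^ f) ^ 2 + 1 ∣ 1 * Nat.card R := by
      refine hfull.part (m := Nat.gcd 3 (p ^ f + 1)) (k := 1) ?_ (fun r hr hrN => ?_)
        (Nat.gcd_pos_of_pos_left _ (by norm_num)).ne' (by norm_num)
      · rw [hcard]
        have hd : (p ^ f) ^ 4 - (p ^ f) ^ 2 + 1 ∣ (p ^ f) ^ 12 - 1 := by
          have h5 : (((p ^ f) ^ 4 - (p ^ f) ^ 2 + 1 : ℕ) : ℤ) ∣ (((p ^ f) ^ 12 - 1 : ℕ) : ℤ) := by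
            rw [Nat.cast_sub (Nat.one_le_pow _ _ hq1), eN]
            exact ⟨(((p ^ f : ℕ) : ℤ) ^ 6 - 1) * (((p ^ f : ℕ) : ℤ) ^ 2 + 1), by push_cast; ring⟩
          exact_mod_cast h5
        show (p ^ f) ^ 4 - (p ^ f) ^ 2 + 1 ∣ (p ^ f) ^ 36 * (((p ^ f) ^ 2 - 1) * ((p ^ f) ^ 5 + 1) *
          ((p ^ f) ^ 6 - 1) * ((p ^ f) ^ 8 - 1) * ((p ^ f) ^ 9 + 1) * ((p ^ f) ^ 12 - 1))
        exact (hd.mul_left _).mul_left _
      · have h := prim_12 hr hq1 eN hrN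
        refine Or.inl ⟨fun h3 => ?_, (k12 h).1⟩
        have h4 := Nat.le_of_dvd (by norm_num) (h3.trans (Nat.gcd_dvd_left _ _))
        have h5 := prim_gt h hq1
        omega
    have h2 : (p ^ f) ^ 4 - (p ^ f) ^ 2 + 1 ≤ C := by
      have := Nat.le_of_dvd (by have : 0 < Nat.card R := Nat.card_pos
                                omega) h1
      omega
    have h3 : p ^ f ≤ (p ^ f) ^ 4 - (p ^ f) ^ 2 + 1 := le_phi12 hq2
    have h4 : num (.te6 (p ^ f)) ≤ ∑ i ∈ Finset.range (C + 1), num (.te6 i) :=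
      Finset.single_le_sum (f := fun i => num (.te6 i)) (fun _ _ => Nat.zero_le _) (Finset.mem_range.2 (by omega))
    have h5 : Nat.card T ≤ Nat.gcd 3 (p ^ f + 1) * Nat.card T :=
      Nat.le_mul_of_pos_left _ (Nat.gcd_pos_of_pos_left _ (by norm_num))
    omega

end Cfsg.Agent.H779.Dg
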