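import Cfsg.Agent.H779.Dg.E7t

/-!
# S5734: `E₇(q)` (helper779)

`exc_e7` : for `T = E₇(q)` large every proper subgroup `R` of `T` misses a prime power with cyclic Sylow subgroups.
-/

set_option autoImplicit false

namespace Cfsg.Agent.H779.Dg

open Cfsg Cfsg.Lie Cfsg.Agent.OrdDiv Cfsg.Agent.H436 Cfsg.Agent.H915.GN Cfsg.Agent.H264.FKS Cfsg.Agent.H902
  Cfsg.Agent.H902.Names Cfsg.Agent.H290.ElReg Cfsg.Agent.H290.ElTab Cfsg.Agent.H290.ElCross Cfsg.Agent.H290.ElEng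
  Cfsg.Agent.H290.ElRich Cfsg.Agent.H290.ElMain Cfsg.Agent.H190.Exc Cfsg.Agent.H851.Dg Cfsg.Agent.H129.CycT
open Cfsg.Agent.H325.Loc (PIso)

/-- the prime divisors of `1 + q + ... + q ^ 6` -/
theorem prim_7 {q r N : ℕ} (hr : r.Prime) (hq : 1 ≤ q)
    (hN : (N : ℤ) = 1 + (q : ℤ) + (q : ℤ) ^ 2 + (q : ℤ) ^ 3 + (q : ℤ) ^ 4 + (q : ℤ) ^ 5 + (q : ℤ) ^ 6) (h : r ∣ N) :
    Prim q 7 r ∨ r = 7 ∧ ¬ r ^ 2 ∣ N := by
  have := Fact.mk hr
  have hz : ∀ n : ℕ, n ∣ N → (1 + (q : ZMod n) + (q : ZMod n) ^ 2 + (q : ZMod n) ^ 3 + (q : ZMod n) ^ 4 +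
      (q : ZMod n) ^ 5 + (q : ZMod n) ^ 6) = 0 := by
    intro n hn
    have h1 := (ZMod.intCast_zmod_eq_zero_iff_dvd (N : ℤ) n).2 (Int.natCast_dvd_natCast.2 hn)
    rw [hN] at h1
    push_cast at h1
    exact h1
  have h0 := hz r h
  have e7 : (q : ZMod r) ^ 7 = 1 := by linear_combination ((q : ZMod r) - 1) * h0
  by_cases h7 : r = 7
  · subst h7
    right
    refine ⟨rfl, fun h2 => ?_⟩
    have h3 := hz 49 h2
    generalize (q : ZMod 49) = x at h3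
    revert h3; revert x; decide
  · left
    have hrq : ¬ r ∣ q := fun h4 => by
      have h5 : (q : ZMod r) = 0 := (ZMod.natCast_eq_zero_iff _ _).2 h4
      rw [h5] at h0
      norm_num at h0
    refine prim_of hr hq hrq (orderOf_eq_prime e7 fun h1 => ?_)
    rw [h1] at h0
    have h2 : ((7 : ℕ) : ZMod r) = 0 := by push_cast; linear_combination h0
    rw [ZMod.natCast_eq_zero_iff] at h2
    exact h7 ((Nat.prime_dvd_prime_iff_eq hr (by norm_num)).1 h2)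

theorem le_phi7 {q N : ℕ}
    (hN : (N : ℤ) = 1 + (q : ℤ) + (q : ℤ) ^ 2 + (q : ℤ) ^ 3 + (q : ℤ) ^ 4 + (q : ℤ) ^ 5 + (q : ℤ) ^ 6) : q ≤ N := by
  have h : (0 : ℤ) ≤ 1 + (q : ℤ) ^ 2 + (q : ℤ) ^ 3 + (q : ℤ) ^ 4 + (q : ℤ) ^ 5 + (q : ℤ) ^ 6 := by positivity
  have h8 : (q : ℤ) ≤ N := by linarith
  exact_mod_cast h8

/-- **`E₇(q)`.** -/
theorem exc_e7 : ∃ B : ℕ, ∀ (_ : OrderTable.{0})
    (_ : ∀ (X : Type) [Group X] [Finite X] [IsSimpleGroup X], IsKnownSimple' X) (_ : ASThm.{0}) (_ : RichFix.{0})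
    {T : Type} [Group T] [Finite T] {q : ℕ}, IsNamed (.e7 q) T → B ≤ Nat.card T → ∀ R : Subgroup T, R ≠ ⊤ →
    MissC R := by
  obtain ⟨C, hC⟩ := engine
  refine ⟨(∑ i ∈ Finset.range (7 * C + 1), num (.e7 i)) + 1, ?_⟩
  intro OT' hS0 has hrf T _ _ q hT hB R hR
  apply missC_of_not
  intro hfull
  obtain ⟨p, f, hp, hf, rfl⟩ := (isPrimePow_nat_iff _).1 hT.cond
  obtain ⟨F, _, _, hF, ⟨e⟩⟩ := hT.real
  have hpF := Fact.mk hp
  have hch : CharP F p := charP_of_pow hp hF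
  have h2q : 2 ≤ p ^ f := hF ▸ Fintype.one_lt_card
  have hq1 : 1 ≤ p ^ f := by omega
  have hcard : Nat.gcd 2 (p ^ f - 1) * Nat.card T = num (.e7 (p ^ f)) := hT.eq
  obtain ⟨w, hw⟩ := exists_prim (q := p ^ f) (e := 14) h2q (by norm_num) (by norm_num)
  obtain ⟨N7, e7, k7⟩ := kc7 hF
  obtain ⟨N9, -, k9⟩ := kc9 hF
  obtain ⟨N14, -, k14⟩ := kc14 hF
  obtain ⟨N18, -, k18⟩ := kc18 hF
  have c7 : ∀ r, Prim (p ^ f) 7 r → Ab T r ∧ CC T r := fun r h => ⟨(k7 r h).1.toAb.congr e.symm, (k7 r h).2.congr e.symm⟩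
  have c9 : ∀ r, Prim (p ^ f) 9 r → Ab T r ∧ CC T r := fun r h => ⟨(k9 r h).1.toAb.congr e.symm, (k9 r h).2.congr e.symm⟩
  have c14 : ∀ r, Prim (p ^ f) 14 r → Ab T r ∧ CC T r := fun r h => ⟨(k14 r h).1.toAb.congr e.symm, (k14 r h).2.congr e.symm⟩
  have c18 : ∀ r, Prim (p ^ f) 18 r → Ab T r ∧ CC T r := fun r h => ⟨(k18 r h).1.toAb.congr e.symm, (k18 r h).2.congr e.symm⟩
  have hF7 : Fth 133 F T := ((H290.ElE7.card_idx ▸ Fth.of (ι := chevE7.Idx) (F := F) (ρ := (chevE7.group F).subtype)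
      (Subgroup.subtype_injective _)) : Fth 133 F ↥(chevE7.group F)).congr e.symm
  have hfr : ∀ t : ℕ, t.Prime → ∃ r r' m m', Tc T r m ∧ Tc T r' m' ∧ CC T r ∧ CC T r' ∧ r ≠ r' ∧ 133 < r * r' ∧
      ¬ t ∣ m ∧ ¬ t ∣ m' := fun t ht => by
    obtain ⟨r, r', m, m', h1, h2, h3, h4, h5⟩ := free7 hF ht
    exact ⟨r, r', m, m', h1.congr e.symm, h2.congr e.symm, h3.congr e.symm, h4.congr e.symm, h5⟩
  have hrad := rad_of hp hF7 hfull ((H325.IsoExc.piso_E7 (hF.symm ▸ hw)).congr e.symm)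
    (hfull.dvd hw.prime (c14 w hw).1.dvd (c14 w hw).2) (fun t ht _ => hfr t ht)
  obtain ⟨r₀, -, m₀, -, h0, -, h0c, -, -, -, h02, -⟩ := hfr 2 Nat.prime_two
  have hr2 : r₀ ≠ 2 := by
    rintro rfl
    exact h02 h0.dvd_m
  let P : ℕ → Prop := fun r => Prim (p ^ f) 7 r ∨ Prim (p ^ f) 9 r ∨ Prim (p ^ f) 14 r ∨ Prim (p ^ f) 18 r
  have hP : ∀ r, P r → Ab T r ∧ CC T r := by
    rintro r (h | h | h | h)
    · exact c7 r h
    · exact c9 r h
    · exact c14 r h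
    · exact c18 r h
  obtain ⟨S, hSn, hSs, hSna, hSc, hSP, g, hg, hgc⟩ := hC OT' hS0 has hrf (by norm_num) hp hF7 (P := P)
    (fun r hr => ⟨(hP r hr).1.prime, hfull.dvd (hP r hr).1.prime (hP r hr).1.dvd (hP r hr).2, (hP r hr).2⟩)
    (by
      obtain ⟨r9, p9⟩ := exists_prim (q := p ^ f) (e := 9) h2q (by norm_num) (by norm_num)
      obtain ⟨r18, p18⟩ := exists_prim (q := p ^ f) (e := 18) h2q (by norm_num) (by norm_num)
      obtain ⟨k, hk⟩ := mod_of_prim p9 (by omega)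
      obtain ⟨k', hk'⟩ := mod_of_prim p18 (by omega)
      have := p9.prime.two_le
      have := p18.prime.two_le
      have := p9.odd (by norm_num)
      have hne : r9 ≠ r18 := fun h => by have := (h ▸ p9).unique p18; omega
      rcases Nat.lt_or_gt_of_ne hne with h | h
      · exact ⟨r9, r18, Or.inr (Or.inl p9), Or.inr (Or.inr (Or.inr p18)), by omega, by omega⟩
      · exact ⟨r18, r9, Or.inr (Or.inr (Or.inr p18)), Or.inr (Or.inl p9), by omega, by omega⟩)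
    h0.prime hr2 (hfull.dvd h0.prime h0.dvd h0c) (fun g hg => by
      have h5 : orderOf (g ^ 2) = r₀ := by
        rw [orderOf_pow' g (by norm_num), hg, Nat.gcd_mul_right_left, Nat.mul_div_cancel_left _ (by norm_num)]
      have h6 := h0.free Nat.prime_two h02 (MonoidHom.id T) Function.injective_id (x := g ^ 2) (a := g ^ r₀) h5 (by
        rw [← pow_mul, mul_comm, ← hg, pow_orderOf_eq_one]) (by rw [← pow_add, ← pow_add, add_comm])
      have h7 := orderOf_dvd_of_pow_eq_one h6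
      rw [hg] at h7
      have := Nat.le_of_dvd h0.prime.pos h7
      have := h0.prime.pos
      omega) hrad
  rcases hgc with hgc | hgc
  · -- characteristic `p`
    have h := charp_e7 hp hf hg.cond hgc hg.eq (IsNamed.card_dvd hT S)
      (fun s hs _ => hSP s (Or.inr (Or.inr (Or.inr hs))))
      (fun s hs _ => hSP s (Or.inr (Or.inr (Or.inl hs))))
      (fun s hs => hSP s (Or.inl hs))
    subst h
    exact hR (eq_top_of_name hT hg)
  · -- bounded
    have h1 : N7 ∣ 7 * Nat.card R := by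
      refine hfull.part (m := Nat.gcd 2 (p ^ f - 1)) (k := 7) ?_ (fun r hr hrN => ?_)
        (Nat.gcd_pos_of_pos_left _ (by norm_num)).ne' (by norm_num)
      · rw [hcard]
        have hd : N7 ∣ (p ^ f) ^ 14 - 1 := by
          have h5 : (N7 : ℤ) ∣ (((p ^ f) ^ 14 - 1 : ℕ) : ℤ) := by
            rw [Nat.cast_sub (Nat.one_le_pow _ _ hq1), e7]
            exact ⟨(((p ^ f : ℕ) : ℤ) - 1) * (((p ^ f : ℕ) : ℤ) ^ 7 + 1), by push_cast; ring⟩
          exact_mod_cast h5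
        show N7 ∣ (p ^ f) ^ 63 * (((p ^ f) ^ 2 - 1) * ((p ^ f) ^ 6 - 1) *
          ((p ^ f) ^ 8 - 1) * ((p ^ f) ^ 10 - 1) * ((p ^ f) ^ 12 - 1) * ((p ^ f) ^ 14 - 1) *
          ((p ^ f) ^ 18 - 1))
        exact ((hd.mul_left _).mul_right _).mul_left _
      · rcases prim_7 hr hq1 e7 hrN with h | h
        · refine Or.inl ⟨fun h3 => ?_, (c7 r h).2⟩
          have h4 := Nat.le_of_dvd (by norm_num) (h3.trans (Nat.gcd_dvd_left _ _))
          have h5 := prim_gt h hq1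
          omega
        · exact Or.inr h
    have h2 : N7 ≤ 7 * C := by
      have := Nat.le_of_dvd (by have : 0 < Nat.card R := Nat.card_pos
                                omega) h1
      omega
    have h3 : p ^ f ≤ N7 := le_phi7 e7
    have h4 : num (.e7 (p ^ f)) ≤ ∑ i ∈ Finset.range (7 * C + 1), num (.e7 i) :=
      Finset.single_le_sum (f := fun i => num (.e7 i)) (fun _ _ => Nat.zero_le _) (Finset.mem_range.2 (by omega))
    have h5 : Nat.card T ≤ Nat.gcd 2 (p ^ f - 1) * Nat.card T :=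
      Nat.le_mul_of_pos_left _ (Nat.gcd_pos_of_pos_left _ (by norm_num))
    omega

end Cfsg.Agent.H779.Dg
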