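import Cfsg.Agent.H779.Dg.Eng
import Cfsg.Agent.H290.ElE8t
import Cfsg.Agent.H325.IsoExc
import Cfsg.Agent.H325.Same.ExcChar

/-!
# S5734: `E₈(q)` (helper779)

`exc_e8` : for `T = E₈(q)` large every proper subgroup `R` of `T` misses a prime power with cyclic Sylow subgroups.
-/

set_option autoImplicit false

namespace Cfsg.Agent.H779.Dg

open Cfsg Cfsg.Lie Cfsg.Agent.OrdDiv Cfsg.Agent.H436 Cfsg.Agent.H915.GN Cfsg.Agent.H264.FKS Cfsg.Agent.H902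
  Cfsg.Agent.H902.Names Cfsg.Agent.H290.ElReg Cfsg.Agent.H290.ElTab Cfsg.Agent.H290.ElCross Cfsg.Agent.H290.ElEng
  Cfsg.Agent.H290.ElRich Cfsg.Agent.H290.ElMain Cfsg.Agent.H190.Exc Cfsg.Agent.H851.Dg Cfsg.Agent.H129.CycT
open Cfsg.Agent.H325.Loc (PIso)

/-- no solvable normal subgroups -/
theorem rad_of {n p : ℕ} (hp : p.Prime) {F : Type} [Field F] [CharP F p] {T : Type} [Group T] [Finite T]
    (hF : Fth n F T) {R : Subgroup T} (hfull : CFull T R) {w : ℕ} (hiso : PIso p w T) (hw : w ∣ Nat.card R)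
    (hfree : ∀ t : ℕ, t.Prime → t ≠ p → ∃ r r' m m', Tc T r m ∧ Tc T r' m' ∧ CC T r ∧ CC T r' ∧ r ≠ r' ∧ n < r * r' ∧
      ¬ t ∣ m ∧ ¬ t ∣ m') (N : Subgroup R) (hN : N.Normal) (hs : Group.IsSolvable N) : N = ⊥ := by
  have hpF := Fact.mk hp
  obtain ⟨τ, hτ⟩ : Fth n F R := hF.sub R.subtype R.subtype_injective
  refine eq_bot_of_rad (p := p) hτ (no_p_normal hiso hw) (fun t ht htp _ => ?_) N hN hs
  obtain ⟨r, r', m, m', h3, h4, h5, h6, h7, h8, h9, h10⟩ := hfree t ht htp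
  have := Fact.mk h3.prime
  have := Fact.mk h4.prime
  obtain ⟨x, hx⟩ := exists_prime_orderOf_dvd_card' r (hfull.dvd h3.prime h3.dvd h5)
  obtain ⟨y, hy⟩ := exists_prime_orderOf_dvd_card' r' (hfull.dvd h4.prime h4.dvd h6)
  refine ⟨r, r', x, y, h3.prime, h4.prime, h7, hx, hy, by rw [Fintype.card_fin]; exact h8, ?_, ?_⟩
  · exact fun a ha hxa => h3.free ht h9 R.subtype R.subtype_injective hx ha hxa
  · exact fun a ha hxa => h4.free ht h10 R.subtype R.subtype_injective hy ha hxa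

theorem Tc.cc {T : Type*} [Group T] [Finite T] {r N : ℕ} (hr : r.Prime) (h : CycExact T N) (hN : r ∣ N) :
    Tc T r N ∧ CC T r :=
  ⟨Tc.of_exact h hr hN, (cccd_of_exact hr hN h).1⟩

/-! ### the classes -/

section E8

variable {F : Type} [Field F] [Fintype F] {q : ℕ}

theorem kc15 (hq : Fintype.card F = q) : ∃ N : ℕ,
    (N : ℤ) = 1 - (q : ℤ) + (q : ℤ) ^ 3 - (q : ℤ) ^ 4 + (q : ℤ) ^ 5 - (q : ℤ) ^ 7 + (q : ℤ) ^ 8 ∧
      ∀ r, Prim q 15 r → Tc ↥(chevE8.group F) r N ∧ CC ↥(chevE8.group F) r := by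
  have h2 : 2 ≤ q := hq ▸ Fintype.one_lt_card
  have hpos : (0 : ℤ) ≤ 1 - (q : ℤ) + (q : ℤ) ^ 3 - (q : ℤ) ^ 4 + (q : ℤ) ^ 5 - (q : ℤ) ^ 7 + (q : ℤ) ^ 8 := by
    obtain ⟨a, rfl⟩ := Nat.exists_eq_add_of_le' h2
    push_cast
    ring_nf
    positivity
  have hN := Int.toNat_of_nonneg hpos
  refine ⟨_, hN, fun r hr => Tc.cc hr.prime (exact_E8_15 hq hN) ?_⟩
  refine dvd_of_id hr (by omega) (a := 5) (b := 3) (c := 1) (by decide) (by decide) (by decide) ?_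
  rw [hN]
  exact ⟨(q - 1) ^ 2, by ring⟩

theorem kc24 (hq : Fintype.card F = q) : ∃ N : ℕ,
    (N : ℤ) = 1 - (q : ℤ) ^ 4 + (q : ℤ) ^ 8 ∧
      ∀ r, Prim q 24 r → Tc ↥(chevE8.group F) r N ∧ CC ↥(chevE8.group F) r := by
  have h2 : 2 ≤ q := hq ▸ Fintype.one_lt_card
  have hpos : (0 : ℤ) ≤ 1 - (q : ℤ) ^ 4 + (q : ℤ) ^ 8 := by
    obtain ⟨a, rfl⟩ := Nat.exists_eq_add_of_le' h2
    push_cast
    ring_nf
    positivity
  have hN := Int.toNat_of_nonneg hpos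
  refine ⟨_, hN, fun r hr => Tc.cc hr.prime (exact_E8_24 hq hN) ?_⟩
  refine dvd_of_id hr (by omega) (a := 12) (b := 8) (c := 1) (by decide) (by decide) (by decide) ?_
  rw [hN]
  exact ⟨((q : ℤ) ^ 4 - 1) * (q - 1), by ring⟩

theorem kc30 (hq : Fintype.card F = q) : ∃ N : ℕ,
    (N : ℤ) = 1 + (q : ℤ) - (q : ℤ) ^ 3 - (q : ℤ) ^ 4 - (q : ℤ) ^ 5 + (q : ℤ) ^ 7 + (q : ℤ) ^ 8 ∧
      ∀ r, Prim q 30 r → Tc ↥(chevE8.group F) r N ∧ CC ↥(chevE8.group F) r := by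
  have h2 : 2 ≤ q := hq ▸ Fintype.one_lt_card
  have hpos : (0 : ℤ) ≤ 1 + (q : ℤ) - (q : ℤ) ^ 3 - (q : ℤ) ^ 4 - (q : ℤ) ^ 5 + (q : ℤ) ^ 7 + (q : ℤ) ^ 8 := by
    obtain ⟨a, rfl⟩ := Nat.exists_eq_add_of_le' h2
    push_cast
    ring_nf
    positivity
  have hN := Int.toNat_of_nonneg hpos
  refine ⟨_, hN, fun r hr => Tc.cc hr.prime (exact_E8_30 hq hN) ?_⟩
  refine dvd_of_id hr (by omega) (a := 15) (b := 10) (c := 6) (by decide) (by decide) (by decide) ?_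
  rw [hN]
  exact ⟨((q : ℤ) ^ 5 - 1) * (((q : ℤ) ^ 3 - 1) * (q + 1)), by ring⟩

theorem kb20 (hq : Fintype.card F = q) (r : ℕ) (hr : Prim q 20 r) :
    Ab ↥(chevE8.group F) r ∧ CC ↥(chevE8.group F) r := by
  have h2 : 2 ≤ q := hq ▸ Fintype.one_lt_card
  have hpos : (0 : ℤ) ≤ 1 - (q : ℤ) ^ 2 + (q : ℤ) ^ 4 - (q : ℤ) ^ 6 + (q : ℤ) ^ 8 := by
    obtain ⟨a, rfl⟩ := Nat.exists_eq_add_of_le' h2
    push_cast
    ring_nf
    positivity
  have hN := Int.toNat_of_nonneg hpos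
  have hm := mod_of_prim hr (by omega)
  have h3 := at_E8_20 hq hN hr.prime ?_ (by rintro rfl; revert hm; decide)
  · exact ⟨Ab.of_at hr.prime h3, fun x hx => h3.isCyclic hr.prime hx⟩
  · refine dvd_of_id hr (by omega) (a := 10) (b := 4) (c := 1) (by decide) (by decide) (by decide) ?_
    rw [hN]
    exact ⟨((q : ℤ) ^ 2 - 1) * (q - 1), by ring⟩

/-- **For every prime `t` there are two classes of regular elements free of `t`.** -/
theorem free8 (hq : Fintype.card F = q) {t : ℕ} (ht : t.Prime) : ∃ r r' m m', Tc ↥(chevE8.group F) r m ∧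
    Tc ↥(chevE8.group F) r' m' ∧ CC ↥(chevE8.group F) r ∧ CC ↥(chevE8.group F) r' ∧ r ≠ r' ∧ 248 < r * r' ∧ ¬ t ∣ m ∧
      ¬ t ∣ m' := by
  have h2 : 2 ≤ q := hq ▸ Fintype.one_lt_card
  obtain ⟨N15, e15, h15⟩ := kc15 hq
  obtain ⟨N24, e24, h24⟩ := kc24 hq
  obtain ⟨N30, e30, h30⟩ := kc30 hq
  obtain ⟨r15, p15⟩ := exists_prim (q := q) (e := 15) h2 (by norm_num) (by norm_num)
  obtain ⟨r24, p24⟩ := exists_prim (q := q) (e := 24) h2 (by norm_num) (by norm_num)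
  obtain ⟨r30, p30⟩ := exists_prim (q := q) (e := 30) h2 (by norm_num) (by norm_num)
  have g15 : 31 ≤ r15 := by
    obtain ⟨k, hk⟩ := mod_of_prim p15 (by omega)
    have := p15.prime.two_le
    have := p15.odd (by norm_num)
    omega
  have g24 : 25 ≤ r24 := by
    obtain ⟨k, hk⟩ := mod_of_prim p24 (by omega)
    have := p24.prime.two_le
    omega
  have g30 : 31 ≤ r30 := by
    obtain ⟨k, hk⟩ := mod_of_prim p30 (by omega)
    have := p30.prime.two_le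
    omega
  have n1 : r15 ≠ r24 := fun h => by have := (h ▸ p15).unique p24; omega
  have n2 : r15 ≠ r30 := fun h => by have := (h ▸ p15).unique p30; omega
  have n3 : r24 ≠ r30 := fun h => by have := (h ▸ p24).unique p30; omega
  have b1 : t ∣ N15 → ¬ t ∣ N24 := fun h h' => not_dvd_both ht (u := (q : ℤ) - (q : ℤ) ^ 5 - (q : ℤ) ^ 7)
    (v := 1 - (q : ℤ) + (q : ℤ) ^ 2 + (q : ℤ) ^ 5 - (q : ℤ) ^ 6 + (q : ℤ) ^ 7) (by rw [e15, e24]; ring) h h'
  have b2 : t ∣ N24 → ¬ t ∣ N30 := fun h h' => not_dvd_both ht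
    (u := 1 + (q : ℤ) + (q : ℤ) ^ 2 - (q : ℤ) ^ 5 - (q : ℤ) ^ 6 - (q : ℤ) ^ 7)
    (v := -(q : ℤ) + (q : ℤ) ^ 5 + (q : ℤ) ^ 7) (by rw [e24, e30]; ring) h h'
  have b3 : t ∣ N15 → ¬ t ∣ N30 := fun h h' => by
    have h1 : (t : ℤ) ∣ 2 := by
      have e : (1 + (q : ℤ) + (q : ℤ) ^ 2 - (q : ℤ) ^ 5 - (q : ℤ) ^ 6 - (q : ℤ) ^ 7) * N15 +
          (1 - (q : ℤ) + (q : ℤ) ^ 2 + (q : ℤ) ^ 5 - (q : ℤ) ^ 6 + (q : ℤ) ^ 7) * N30 = 2 := by
        rw [e15, e30]; ring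
      rw [← e]
      exact dvd_add ((Int.natCast_dvd_natCast.2 h).mul_left _) ((Int.natCast_dvd_natCast.2 h').mul_left _)
    have h3 : t ∣ 2 := by exact_mod_cast h1
    obtain rfl := (Nat.prime_dvd_prime_iff_eq ht Nat.prime_two).1 h3
    have h4 : ((2 : ℕ) : ℤ) ∣ (N15 : ℤ) := Int.natCast_dvd_natCast.2 h
    rw [e15, ← ZMod.intCast_zmod_eq_zero_iff_dvd] at h4
    push_cast at h4
    generalize (q : ZMod 2) = x at h4
    revert h4
    revert x
    decide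
  by_cases c15 : t ∣ N15
  · exact ⟨r24, r30, N24, N30, (h24 _ p24).1, (h30 _ p30).1, (h24 _ p24).2, (h30 _ p30).2, n3, by nlinarith,
      b1 c15, b3 c15⟩
  · by_cases c24 : t ∣ N24
    · exact ⟨r15, r30, N15, N30, (h15 _ p15).1, (h30 _ p30).1, (h15 _ p15).2, (h30 _ p30).2, n2, by nlinarith,
        c15, b2 c24⟩
    · exact ⟨r15, r24, N15, N24, (h15 _ p15).1, (h24 _ p24).1, (h15 _ p15).2, (h24 _ p24).2, n1, by nlinarith,
        c15, c24⟩

end E8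

/-- `Prim` from the order in `ZMod r` -/
theorem prim_of {q e r : ℕ} (hr : r.Prime) (hq : 1 ≤ q) (hrq : ¬ r ∣ q) (h : orderOf (q : ZMod r) = e) :
    Prim q e r := by
  refine ⟨hr, fun m => ?_, hrq⟩
  rw [← h, orderOf_dvd_iff_pow_eq_one, ← sub_eq_zero, ← ZMod.natCast_eq_zero_iff,
    Nat.cast_sub (Nat.one_le_pow _ _ hq)]
  push_cast
  rfl

/-- the prime divisors of `q ^ 8 - q ^ 4 + 1` -/
theorem prim_24 {q r N : ℕ} (hr : r.Prime) (hq : 1 ≤ q) (hN : (N : ℤ) = 1 - (q : ℤ) ^ 4 + (q : ℤ) ^ 8) (h : r ∣ N) :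
    Prim q 24 r := by
  have hz : ∀ n : ℕ, n ∣ N → (1 - (q : ZMod n) ^ 4 + (q : ZMod n) ^ 8) = 0 := by
    intro n hn
    have h1 := (ZMod.intCast_zmod_eq_zero_iff_dvd (N : ℤ) n).2 (Int.natCast_dvd_natCast.2 hn)
    rw [hN] at h1
    push_cast at h1
    exact h1
  have h2 : r ≠ 2 := by
    rintro rfl
    have h0 := hz 2 h
    generalize (q : ZMod 2) = x at h0
    revert h0; revert x; decide
  have h3 : r ≠ 3 := by
    rintro rfl
    have h0 := hz 3 h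
    generalize (q : ZMod 3) = x at h0
    revert h0; revert x; decide
  have := Fact.mk hr
  have h0 := hz r h
  have e12 : (q : ZMod r) ^ 12 = -1 := by linear_combination ((q : ZMod r) ^ 4 + 1) * h0
  have hrq : ¬ r ∣ q := fun h4 => by
    have h5 : (q : ZMod r) = 0 := (ZMod.natCast_eq_zero_iff _ _).2 h4
    rw [h5] at h0
    norm_num at h0
  refine prim_of hr hq hrq ?_
  have two0 : (2 : ZMod r) ≠ 0 := fun h4 => h2 ((Nat.prime_dvd_prime_iff_eq hr Nat.prime_two).1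
    ((ZMod.natCast_eq_zero_iff 2 r).1 (by exact_mod_cast h4)))
  have three0 : (3 : ZMod r) ≠ 0 := fun h4 => h3 ((Nat.prime_dvd_prime_iff_eq hr Nat.prime_three).1
    ((ZMod.natCast_eq_zero_iff 3 r).1 (by exact_mod_cast h4)))
  refine orderOf_eq_of_pow_and_pow_div_prime (by norm_num) (by linear_combination ((q : ZMod r) ^ 12 - 1) * e12)
    fun s hs hsd => ?_
  have h5 : s = 2 ∨ s = 3 := by
    have h6 : s ∣ 2 ^ 3 * 3 := hsd
    rcases hs.dvd_mul.1 h6 with h7 | h7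
    · exact Or.inl ((Nat.prime_dvd_prime_iff_eq hs Nat.prime_two).1 (hs.dvd_of_dvd_pow h7))
    · exact Or.inr ((Nat.prime_dvd_prime_iff_eq hs Nat.prime_three).1 h7)
  rcases h5 with rfl | rfl
  · norm_num only
    rw [e12]
    intro h6
    exact two0 (by linear_combination -h6)
  · norm_num only
    intro h6
    apply three0
    linear_combination (2 + (q : ZMod r) ^ 4) * h0 + (-1 - (q : ZMod r) ^ 4) * h6

theorem le_phi24 {q N : ℕ} (hq : 2 ≤ q) (hN : (N : ℤ) = 1 - (q : ℤ) ^ 4 + (q : ℤ) ^ 8) : q ≤ N := by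
  have h1 : q ≤ q ^ 4 := Nat.le_self_pow (by norm_num) q
  have h3 : q ^ 4 * 2 ≤ q ^ 4 * q ^ 4 := Nat.mul_le_mul_left _ (hq.trans h1)
  rw [show (q : ℤ) ^ 8 = ((q ^ 4 * q ^ 4 : ℕ) : ℤ) by push_cast; ring,
    show (q : ℤ) ^ 4 = ((q ^ 4 : ℕ) : ℤ) by push_cast; rfl] at hN
  generalize q ^ 4 * q ^ 4 = z at *
  generalize q ^ 4 = y at *
  omega

/-- **`E₈(q)`.** -/
theorem exc_e8 : ∃ B : ℕ, ∀ (_ : OrderTable.{0})
    (_ : ∀ (X : Type) [Group X] [Finite X] [IsSimpleGroup X], IsKnownSimple' X) (_ : ASThm.{0}) (_ : RichFix.{0})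
    {T : Type} [Group T] [Finite T] {q : ℕ}, IsNamed (.e8 q) T → B ≤ Nat.card T → ∀ R : Subgroup T, R ≠ ⊤ →
    MissC R := by
  obtain ⟨C, hC⟩ := engine
  refine ⟨(∑ i ∈ Finset.range (C + 1), num (.e8 i)) + 1, ?_⟩
  intro OT' hS0 has hrf T _ _ q hT hB R hR
  apply missC_of_not
  intro hfull
  obtain ⟨p, f, hp, hf, rfl⟩ := (isPrimePow_nat_iff _).1 hT.cond
  obtain ⟨F, _, _, hF, ⟨e⟩⟩ := hT.real
  have hpF := Fact.mk hp
  have hch : CharP F p := charP_of_pow hp hF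
  have h2q : 2 ≤ p ^ f := hF ▸ Fintype.one_lt_card
  have hq1 : 1 ≤ p ^ f := by omega
  have hcard : Nat.card T = num (.e8 (p ^ f)) := by
    have h := hT.eq
    change 1 * Nat.card T = _ at h
    rwa [one_mul] at h
  obtain ⟨w, hw⟩ := exists_prim (q := p ^ f) (e := 24) h2q (by norm_num) (by norm_num)
  obtain ⟨N15, -, k15⟩ := kc15 hF
  obtain ⟨N24, e24, k24⟩ := kc24 hF
  obtain ⟨N30, -, k30⟩ := kc30 hF
  have c15 : ∀ r, Prim (p ^ f) 15 r → Ab T r ∧ CC T r := fun r h => ⟨(k15 r h).1.toAb.congr e.symm, (k15 r h).2.congr e.symm⟩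
  have c24 : ∀ r, Prim (p ^ f) 24 r → Ab T r ∧ CC T r := fun r h => ⟨(k24 r h).1.toAb.congr e.symm, (k24 r h).2.congr e.symm⟩
  have c30 : ∀ r, Prim (p ^ f) 30 r → Ab T r ∧ CC T r := fun r h => ⟨(k30 r h).1.toAb.congr e.symm, (k30 r h).2.congr e.symm⟩
  have c20 : ∀ r, Prim (p ^ f) 20 r → Ab T r ∧ CC T r := fun r h =>
    ⟨(kb20 hF r h).1.congr e.symm, (kb20 hF r h).2.congr e.symm⟩
  have hF8 : Fth 248 F T := ((H290.ElE8.card_idx ▸ Fth.of (ι := chevE8.Idx) (F := F) (ρ := (chevE8.group F).subtype)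
      (Subgroup.subtype_injective _)) : Fth 248 F ↥(chevE8.group F)).congr e.symm
  have hfr : ∀ t : ℕ, t.Prime → ∃ r r' m m', Tc T r m ∧ Tc T r' m' ∧ CC T r ∧ CC T r' ∧ r ≠ r' ∧ 248 < r * r' ∧
      ¬ t ∣ m ∧ ¬ t ∣ m' := fun t ht => by
    obtain ⟨r, r', m, m', h1, h2, h3, h4, h5⟩ := free8 hF ht
    exact ⟨r, r', m, m', h1.congr e.symm, h2.congr e.symm, h3.congr e.symm, h4.congr e.symm, h5⟩
  have hrad := rad_of hp hF8 hfull ((H325.IsoExc.piso_E8 (Or.inr rfl) (hF.symm ▸ hw)).congr e.symm)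
    (hfull.dvd hw.prime (c24 w hw).1.dvd (c24 w hw).2) (fun t ht _ => hfr t ht)
  obtain ⟨r₀, -, m₀, -, h0, -, h0c, -, -, -, h02, -⟩ := hfr 2 Nat.prime_two
  have hr2 : r₀ ≠ 2 := by
    rintro rfl
    exact h02 h0.dvd_m
  let P : ℕ → Prop := fun r => Prim (p ^ f) 15 r ∨ Prim (p ^ f) 20 r ∨ Prim (p ^ f) 24 r ∨ Prim (p ^ f) 30 r
  have hP : ∀ r, P r → Ab T r ∧ CC T r := by
    rintro r (h | h | h | h)
    · exact c15 r h
    · exact c20 r h
    · exact c24 r h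
    · exact c30 r h
  obtain ⟨S, hSn, hSs, hSna, hSc, hSP, g, hg, hgc⟩ := hC OT' hS0 has hrf le_rfl hp hF8 (P := P)
    (fun r hr => ⟨(hP r hr).1.prime, hfull.dvd (hP r hr).1.prime (hP r hr).1.dvd (hP r hr).2, (hP r hr).2⟩)
    (by
      obtain ⟨r15, p15⟩ := exists_prim (q := p ^ f) (e := 15) h2q (by norm_num) (by norm_num)
      obtain ⟨r30, p30⟩ := exists_prim (q := p ^ f) (e := 30) h2q (by norm_num) (by norm_num)
      obtain ⟨k, hk⟩ := mod_of_prim p15 (by omega)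
      obtain ⟨k', hk'⟩ := mod_of_prim p30 (by omega)
      have := p15.prime.two_le
      have := p30.prime.two_le
      have := p15.odd (by norm_num)
      have hne : r15 ≠ r30 := fun h => by have := (h ▸ p15).unique p30; omega
      rcases Nat.lt_or_gt_of_ne hne with h | h
      · exact ⟨r15, r30, Or.inl p15, Or.inr (Or.inr (Or.inr p30)), by omega, by omega⟩
      · exact ⟨r30, r15, Or.inr (Or.inr (Or.inr p30)), Or.inl p15, by omega, by omega⟩)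
    h0.prime hr2 (hfull.dvd h0.prime h0.dvd h0c) (fun g hg => by
      have h5 : orderOf (g ^ 2) = r₀ := by
        rw [orderOf_pow' g (by norm_num), hg, Nat.gcd_mul_right_left, Nat.mul_div_cancel_left _ (by norm_num)]
      have h6 := h0.free Nat.prime_two h02 (MonoidHom.id T) Function.injective_id (x := g ^ 2) (a := g ^ r₀) h5 (by
        rw [← pow_mul, mul_comm, ← hg, pow_orderOf_eq_one]) (by rw [← pow_add, ← pow_add, add_comm])
      have h7 := orderOf_dvd_of_pow_eq_one h6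
      rw [hg] at h7
      have := Nat.le_of_dvd h0.prime.pos h7
      have := h0.prime.pos
      omega) hrad
  rcases hgc with hgc | hgc
  · -- characteristic `p`
    have h := H325.Same.charp_e8 hp hf hg.cond hgc hg.eq (IsNamed.card_dvd hT S)
      (fun s hs _ => hSP s (Or.inr (Or.inr (Or.inr hs))))
      (fun s hs _ => hSP s (Or.inr (Or.inr (Or.inl hs))))
      (fun s hs _ => hSP s (Or.inr (Or.inl hs)))
    subst h
    exact hR (eq_top_of_name hT hg)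
  · -- bounded
    have h1 : N24 ∣ 1 * Nat.card R := by
      refine hfull.part (m := 1) (k := 1) ?_ (fun r hr hrN => Or.inl ⟨?_, (c24 r (prim_24 hr hq1 e24 hrN)).2⟩)
        (by norm_num) (by norm_num)
      · rw [one_mul, hcard]
        have hd : N24 ∣ (p ^ f) ^ 24 - 1 := by
          have h5 : (N24 : ℤ) ∣ (((p ^ f) ^ 24 - 1 : ℕ) : ℤ) := by
            rw [Nat.cast_sub (Nat.one_le_pow _ _ hq1), e24]
            exact ⟨(((p ^ f : ℕ) : ℤ) ^ 12 - 1) * (((p ^ f : ℕ) : ℤ) ^ 4 + 1), by push_cast; ring⟩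
          exact_mod_cast h5
        show N24 ∣ (p ^ f) ^ 120 * (((p ^ f) ^ 2 - 1) * ((p ^ f) ^ 8 - 1) * ((p ^ f) ^ 12 - 1) *
          ((p ^ f) ^ 14 - 1) * ((p ^ f) ^ 18 - 1) * ((p ^ f) ^ 20 - 1) * ((p ^ f) ^ 24 - 1) * ((p ^ f) ^ 30 - 1))
        exact ((hd.mul_left _).mul_right _).mul_left _
      · exact fun h => hr.one_lt.ne' (Nat.dvd_one.1 h)
    have h2 : N24 ≤ C := by
      have := Nat.le_of_dvd (by have : 0 < Nat.card R := Nat.card_pos
                                omega) h1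
      omega
    have h3 : p ^ f ≤ N24 := le_phi24 h2q e24
    have h4 : num (.e8 (p ^ f)) ≤ ∑ i ∈ Finset.range (C + 1), num (.e8 i) :=
      Finset.single_le_sum (f := fun i => num (.e8 i)) (fun _ _ => Nat.zero_le _) (Finset.mem_range.2 (by omega))
    omega

end Cfsg.Agent.H779.Dg
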