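import Cfsg.Agent.H779.Dg.E8
import Cfsg.Agent.H779.Dg.CharP
import Cfsg.Agent.H290.ElE7t

/-!
# S5734: `E₇(q)` (helper779)

`exc_e7` : for `T = E₇(q)` large every proper subgroup `R` of `T` misses a prime power with cyclic Sylow subgroups.
The classes are those of H290/ElE7t, with cyclic centralisers.
-/

set_option autoImplicit false

namespace Cfsg.Agent.H779.Dg

open Cfsg Cfsg.Lie Cfsg.Lie.ChevalleyDatum Cfsg.Agent.H290.ElMain Cfsg.Agent.H290.ElE7 Cfsg.Agent.H190.Exc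
open Cfsg.Agent.H436 (Prim exists_prim)
open Cfsg.Agent.ChevalleyStructure Cfsg.Agent.ChevalleyStructure.Elts Cfsg.Agent.ChevalleyStructure.CoxeterGeom
  Cfsg.Agent.ChevalleyStructure.CoxeterGeomTypes Cfsg.Agent.ChevalleyStructure.NPerm
open Cfsg.Agent.Nodes.RGDChev
open Cfsg.Agent.H129 Cfsg.Agent.H129.CycT Cfsg.Agent.H129.TorusChar Cfsg.Agent.H129.TorusTw Cfsg.Agent.H129.WData
  Cfsg.Agent.H129.TorAct Cfsg.Agent.H129.RealT

section E7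

variable {F : Type} [Field F] [Fintype F] {q : ℕ}

theorem kc_of (hq : Fintype.card F = q) {A : Mat 7} (hA : ∀ i j, A i j = cartanOf chevE7 7 i j)
    {L : List (Fin 7 × Mat 7)} (hL : ChainOK A L)
    {V B : Mat 7} {c : Fin 7 → ℤ} (hcyc : CycOK 7 (hd L) V B c) {m : ℕ} {R : Fin m → Fin 7 → ℤ} {prv dep : ℕ → ℕ}
    (hR : RootOK chevE7 7 (hd L) R prv dep) {N : ℕ} (hfN : fN c (q : ℤ) = N) (hqN : q.Coprime N) {r : ℕ}
    (hr : r.Prime) (hrN : r ∣ N) (hr2 : r ≠ 2)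
    (hgood : ¬ r ∣ Nat.card CoxeterMatrix.E₇.Group ∧ ∀ s, ¬ (r : ℤ) ∣ Gq B (q : ℤ) (R s)) :
    Tc ↥(chevE7.group F) r (N / Nat.gcd 2 (q - 1)) ∧ CC ↥(chevE7.group F) r := by
  have := finite_W7
  have hq2 : 2 ≤ q := by rw [← hq]; exact Fintype.one_lt_card
  rcases Nat.even_or_odd q with he | ho
  · have hg : Nat.gcd 2 (q - 1) = 1 := by
      rw [← Nat.coprime_iff_gcd_eq_one, Nat.coprime_comm, Nat.coprime_two_right]
      obtain ⟨k, hk⟩ := he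
      exact ⟨k - 1, by omega⟩
    rw [hg, Nat.div_one]
    obtain ⟨T, h1, h2, h3, h4, -⟩ := UntwT.untw_T typeE7 CoxeterMatrix.E₇.toCoxeterSystem (by norm_num) hq
      TorusChar.invC_E7 (by norm_num) hA hL hcyc hR hfN hqN (d := 1) (Or.inr ⟨rfl, sq_surj hq he⟩)
    have h5 : r ∣ Nat.card T := by
      rw [one_mul] at h3
      exact hrN.trans h3
    have h6 := Tc.of_cyc h1 hr h5 (h4 r hr hgood.1 hgood.2)
    exact ⟨⟨h6.toAb, fun x hx => (h6.cd x hx).trans h2⟩, (cccd_of hr h1 h5 (h4 r hr hgood.1 hgood.2) dvd_rfl).1⟩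
  · have hg : Nat.gcd 2 (q - 1) = 2 := by
      refine Nat.gcd_eq_left ?_
      obtain ⟨k, hk⟩ := ho
      exact ⟨k, by omega⟩
    rw [hg]
    obtain ⟨T, h3, h4, h5, -⟩ := HalfT.half_E7 hq ho typeE7 hA hL hcyc hR hfN hqN
    have h6 : N / 2 = Nat.card T := by omega
    rw [h6]
    have h7 : r ∣ Nat.card T := by
      rw [← h4] at hrN
      exact (hr.dvd_mul.1 hrN).resolve_left fun h => hr2 ((Nat.prime_dvd_prime_iff_eq hr Nat.prime_two).1 h)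
    exact ⟨Tc.of_cyc h3 hr h7 (h5 r hr hgood.1 hgood.2), (cccd_of hr h3 h7 (h5 r hr hgood.1 hgood.2) dvd_rfl).1⟩

theorem kc7 (hq : Fintype.card F = q) : ∃ N : ℕ,
    (N : ℤ) = 1 + (q : ℤ) + (q : ℤ) ^ 2 + (q : ℤ) ^ 3 + (q : ℤ) ^ 4 + (q : ℤ) ^ 5 + (q : ℤ) ^ 6 ∧
      ∀ r, Prim q 7 r → Tc ↥(chevE7.group F) r ((q - 1) * N / Nat.gcd 2 (q - 1)) ∧ CC ↥(chevE7.group F) r := by
  have h2 : 2 ≤ q := hq ▸ Fintype.one_lt_card
  have hN := Int.toNat_of_nonneg (show (0 : ℤ) ≤ 1 + (q : ℤ) + (q : ℤ) ^ 2 + (q : ℤ) ^ 3 + (q : ℤ) ^ 4 + (q : ℤ) ^ 5 +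
    (q : ℤ) ^ 6 by positivity)
  refine ⟨_, hN, fun r hr => ?_⟩
  have hrN : r ∣ _ := dvd_of_id hr (by omega) (a := 1) (b := 1) (c := 1) (by decide) (by decide) (by decide)
    (by rw [hN]; exact ⟨((q : ℤ) - 1) ^ 2, by ring⟩)
  obtain ⟨k, hk⟩ := mod_of_prim hr (by omega)
  have := hr.prime.two_le
  have := hr.odd (by norm_num)
  obtain ⟨h3, h4⟩ := fN_7 h2 hN
  exact kc_of hq DataE7s.hA DataE7s.chainOK DataE7s.cycOK DataE7s.rootOK h3 h4 hr.prime (hrN.mul_left _) (by omega)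
    (good_E7_7 hN hr.prime hrN (by omega))

theorem kc9 (hq : Fintype.card F = q) : ∃ N : ℕ, (N : ℤ) = 1 + (q : ℤ) ^ 3 + (q : ℤ) ^ 6 ∧
      ∀ r, Prim q 9 r → Tc ↥(chevE7.group F) r ((q - 1) * N / Nat.gcd 2 (q - 1)) ∧ CC ↥(chevE7.group F) r := by
  have h2 : 2 ≤ q := hq ▸ Fintype.one_lt_card
  have hN := Int.toNat_of_nonneg (show (0 : ℤ) ≤ 1 + (q : ℤ) ^ 3 + (q : ℤ) ^ 6 by positivity)
  refine ⟨_, hN, fun r hr => ?_⟩
  have hrN : r ∣ _ := dvd_of_id hr (by omega) (a := 3) (b := 1) (c := 1) (by decide) (by decide) (by decide)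
    (by rw [hN]; exact ⟨((q : ℤ) - 1) ^ 2, by ring⟩)
  obtain ⟨k, hk⟩ := mod_of_prim hr (by omega)
  have := hr.prime.two_le
  have := hr.odd (by norm_num)
  obtain ⟨h3, h4⟩ := fN_9 h2 hN
  exact kc_of hq DataE7n.hA DataE7n.chainOK DataE7n.cycOK DataE7n.rootOK h3 h4 hr.prime (hrN.mul_left _) (by omega)
    (good_E7_9 hN hr.prime hrN (by omega))

theorem kc14 (hq : Fintype.card F = q) : ∃ N : ℕ,
    (N : ℤ) = 1 - (q : ℤ) + (q : ℤ) ^ 2 - (q : ℤ) ^ 3 + (q : ℤ) ^ 4 - (q : ℤ) ^ 5 + (q : ℤ) ^ 6 ∧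
      ∀ r, Prim q 14 r → Tc ↥(chevE7.group F) r ((q + 1) * N / Nat.gcd 2 (q - 1)) ∧ CC ↥(chevE7.group F) r := by
  have h2 : 2 ≤ q := hq ▸ Fintype.one_lt_card
  have hpos : (0 : ℤ) ≤ 1 - (q : ℤ) + (q : ℤ) ^ 2 - (q : ℤ) ^ 3 + (q : ℤ) ^ 4 - (q : ℤ) ^ 5 + (q : ℤ) ^ 6 := by
    obtain ⟨a, rfl⟩ := Nat.exists_eq_add_of_le' h2
    push_cast
    ring_nf
    positivity
  have hN := Int.toNat_of_nonneg hpos
  refine ⟨_, hN, fun r hr => ?_⟩
  have hrN : r ∣ _ := dvd_of_id hr (by omega) (a := 7) (b := 2) (c := 1) (by decide) (by decide) (by decide)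
    (by rw [hN]; exact ⟨((q : ℤ) - 1) ^ 2, by ring⟩)
  obtain ⟨k, hk⟩ := mod_of_prim hr (by omega)
  have := hr.prime.two_le
  have := hr.odd (by norm_num)
  refine kc_of hq DataE7m.hA DataE7m.chainOK DataE7m.cycOK DataE7m.rootOK (N := (q + 1) * _) ?_ ?_ hr.prime
    (hrN.mul_left _) (by omega) (good_14 hN hr.prime hrN (by omega))
  · rw [DataE7m.fN_eq, Nat.cast_mul, hN]; push_cast; ring
  · exact UntwData.coprime_of_eq (a := (q : ℤ) ^ 6) (by rw [Nat.cast_mul, hN]; push_cast; ring)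

theorem kc18 (hq : Fintype.card F = q) : ∃ N : ℕ, (N : ℤ) = 1 - (q : ℤ) ^ 3 + (q : ℤ) ^ 6 ∧
      ∀ r, Prim q 18 r → Tc ↥(chevE7.group F) r ((q + 1) * N / Nat.gcd 2 (q - 1)) ∧ CC ↥(chevE7.group F) r := by
  have h2 : 2 ≤ q := hq ▸ Fintype.one_lt_card
  have hpos : (0 : ℤ) ≤ 1 - (q : ℤ) ^ 3 + (q : ℤ) ^ 6 := by
    obtain ⟨a, rfl⟩ := Nat.exists_eq_add_of_le' h2
    push_cast
    ring_nf
    positivity
  have hN := Int.toNat_of_nonneg hpos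
  refine ⟨_, hN, fun r hr => ?_⟩
  have hrN : r ∣ _ := dvd_of_id hr (by omega) (a := 9) (b := 6) (c := 1) (by decide) (by decide) (by decide)
    (by rw [hN]; exact ⟨((q : ℤ) ^ 3 - 1) * ((q : ℤ) - 1), by ring⟩)
  obtain ⟨k, hk⟩ := mod_of_prim hr (by omega)
  have := hr.prime.two_le
  have := hr.odd (by norm_num)
  refine kc_of hq DataE7h.hA DataE7h.chainOK DataE7h.cycOK DataE7h.rootOK (N := (q + 1) * _) ?_ ?_ hr.prime
    (hrN.mul_left _) (by omega) (good_18 hN hr.prime hrN (by omega))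
  · rw [DataE7h.fN_eq, Nat.cast_mul, hN]; push_cast; ring
  · exact UntwData.coprime_of_eq (a := 1 - (q : ℤ) ^ 2 - (q : ℤ) ^ 3 + (q : ℤ) ^ 5 + (q : ℤ) ^ 6)
      (by rw [Nat.cast_mul, hN]; push_cast; ring)

/-- **For every prime `t` there are two classes of regular elements free of `t`.** -/
theorem free7 (hq : Fintype.card F = q) {t : ℕ} (ht : t.Prime) : ∃ r r' m m', Tc ↥(chevE7.group F) r m ∧
    Tc ↥(chevE7.group F) r' m' ∧ CC ↥(chevE7.group F) r ∧ CC ↥(chevE7.group F) r' ∧ r ≠ r' ∧ 133 < r * r' ∧ ¬ t ∣ m ∧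
      ¬ t ∣ m' := by
  have h2 : 2 ≤ q := hq ▸ Fintype.one_lt_card
  obtain ⟨N7, e7, h7⟩ := kc7 hq
  obtain ⟨N9, e9, h9⟩ := kc9 hq
  obtain ⟨N14, e14, h14⟩ := kc14 hq
  obtain ⟨N18, e18, h18⟩ := kc18 hq
  obtain ⟨r7, p7⟩ := exists_prim (q := q) (e := 7) h2 (by norm_num) (by norm_num)
  obtain ⟨r9, p9⟩ := exists_prim (q := q) (e := 9) h2 (by norm_num) (by norm_num)
  obtain ⟨r14, p14⟩ := exists_prim (q := q) (e := 14) h2 (by norm_num) (by norm_num)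
  obtain ⟨r18, p18⟩ := exists_prim (q := q) (e := 18) h2 (by norm_num) (by norm_num)
  have g7 : 15 ≤ r7 := by
    obtain ⟨k, hk⟩ := mod_of_prim p7 (by omega)
    have := p7.prime.two_le
    have := p7.odd (by norm_num)
    omega
  have g9 : 19 ≤ r9 := by
    obtain ⟨k, hk⟩ := mod_of_prim p9 (by omega)
    have := p9.prime.two_le
    have := p9.odd (by norm_num)
    omega
  have g14 : 15 ≤ r14 := by
    obtain ⟨k, hk⟩ := mod_of_prim p14 (by omega)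
    have := p14.prime.two_le
    omega
  have g18 : 19 ≤ r18 := by
    obtain ⟨k, hk⟩ := mod_of_prim p18 (by omega)
    have := p18.prime.two_le
    omega
  have n1 : r7 ≠ r9 := fun h => by have := (h ▸ p7).unique p9; omega
  have n2 : r7 ≠ r14 := fun h => by have := (h ▸ p7).unique p14; omega
  have n3 : r9 ≠ r14 := fun h => by have := (h ▸ p9).unique p14; omega
  have n4 : r14 ≠ r18 := fun h => by have := (h ▸ p14).unique p18; omega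
  have cs : ((q - 1 : ℕ) : ℤ) = q - 1 := by push_cast [Nat.cast_sub (show 1 ≤ q by omega)]; rfl
  obtain ⟨g, hg⟩ : ∃ g, g = Nat.gcd 2 (q - 1) := ⟨_, rfl⟩
  rw [← hg] at h7 h9 h14 h18
  have hg1 : g ∣ q - 1 := hg ▸ Nat.gcd_dvd_right _ _
  have hg2 : g ∣ q + 1 := by
    have h3 : g ∣ 2 := hg ▸ Nat.gcd_dvd_left _ _
    have h4 := (Nat.dvd_add_right hg1).2 h3
    rwa [show q - 1 + 2 = q + 1 by omega] at h4
  by_cases ht2 : t = 2
  · subst ht2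
    have key : ∀ {a N : ℕ}, g ∣ a → ¬ 2 ∣ a / g → ¬ 2 ∣ N → ¬ 2 ∣ a * N / g := by
      intro a N ha h3 h4 h5
      rw [Nat.mul_div_right_comm ha] at h5
      rcases Nat.prime_two.dvd_mul.1 h5 with h | h
      · exact h3 h
      · exact h4 h
    by_cases h4 : q % 4 = 1
    · have hg' : g = 2 := hg.trans (Nat.gcd_eq_left ⟨(q - 1) / 2, by omega⟩)
      have h5 : ¬ 2 ∣ (q + 1) / g := by
        rw [hg']
        omega
      exact ⟨r14, r18, _, _, (h14 _ p14).1, (h18 _ p18).1, (h14 _ p14).2, (h18 _ p18).2, n4, by nlinarith, key hg2 h5 (odd14 e14),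
        key hg2 h5 (odd18 e18)⟩
    · refine ⟨r7, r9, _, _, (h7 _ p7).1, (h9 _ p9).1, (h7 _ p7).2, (h9 _ p9).2, n1, by nlinarith, key hg1 ?_ (odd7 e7), key hg1 ?_ (odd9 e9)⟩
      all_goals
        rcases Nat.even_or_odd q with he | ho
        · have hg' : g = 1 := by
            rw [hg, ← Nat.coprime_iff_gcd_eq_one, Nat.coprime_comm, Nat.coprime_two_right]
            obtain ⟨k, hk⟩ := he
            exact ⟨k - 1, by omega⟩
          obtain ⟨k, hk⟩ := he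
          rw [hg', Nat.div_one]
          omega
        · obtain ⟨k, hk⟩ := ho
          have hg' : g = 2 := hg.trans (Nat.gcd_eq_left ⟨k, by omega⟩)
          rw [hg']
          omega
  · have t2 : ¬ t ∣ 2 := fun h => ht2 ((Nat.prime_dvd_prime_iff_eq ht Nat.prime_two).1 h)
    have key : ∀ {a N : ℕ}, g ∣ a → ¬ t ∣ a → ¬ t ∣ N → ¬ t ∣ a * N / g := by
      intro a N ha h3 h4 h5
      rcases ht.dvd_mul.1 (h5.trans (Nat.div_dvd_of_dvd (ha.mul_right N))) with h | h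
      · exact h3 h
      · exact h4 h
    have b1 : t ∣ N7 → ¬ t ∣ N9 := fun h h' => not_dvd_both ht
      (u := 1 - (q : ℤ) + (q : ℤ) ^ 3 - (q : ℤ) ^ 4 + (q : ℤ) ^ 5) (v := -(q : ℤ) ^ 3 - (q : ℤ) ^ 5)
      (by rw [e7, e9]; ring) h h'
    have b2 : t ∣ N7 → ¬ t ∣ N14 := fun h h' => by
      have h1 : (t : ℤ) ∣ 2 := by
        have e : (1 - (q : ℤ)) * N7 + (1 + (q : ℤ)) * N14 = 2 := by rw [e7, e14]; ring
        rw [← e]
        exact dvd_add ((Int.natCast_dvd_natCast.2 h).mul_left _) ((Int.natCast_dvd_natCast.2 h').mul_left _)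
      exact t2 (by exact_mod_cast h1)
    have b3 : t ∣ N9 → ¬ t ∣ N14 := fun h h' => not_dvd_both ht
      (u := 2 - 2 * (q : ℤ) - (q : ℤ) ^ 3 + 2 * (q : ℤ) ^ 4 - (q : ℤ) ^ 5)
      (v := -1 + (q : ℤ) + 2 * (q : ℤ) ^ 2 - (q : ℤ) ^ 3 - (q : ℤ) ^ 4 + (q : ℤ) ^ 5) (by rw [e9, e14]; ring) h h'
    have s14 : t ∣ q - 1 → ¬ t ∣ N14 := fun h h' => not_dvd_both ht
      (u := -(q : ℤ) - (q : ℤ) ^ 3 - (q : ℤ) ^ 5) (v := 1) (by rw [cs, e14]; ring) h h'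
    have s18 : t ∣ q - 1 → ¬ t ∣ N18 := fun h h' => not_dvd_both ht
      (u := -(q : ℤ) ^ 3 - (q : ℤ) ^ 4 - (q : ℤ) ^ 5) (v := 1) (by rw [cs, e18]; ring) h h'
    have a7 : t ∣ q + 1 → ¬ t ∣ N7 := fun h h' => not_dvd_both ht
      (u := -(q : ℤ) - (q : ℤ) ^ 3 - (q : ℤ) ^ 5) (v := 1) (by rw [e7]; push_cast; ring) h h'
    have a9 : t ∣ q + 1 → ¬ t ∣ N9 := fun h h' => not_dvd_both ht
      (u := -(q : ℤ) ^ 3 + (q : ℤ) ^ 4 - (q : ℤ) ^ 5) (v := 1) (by rw [e9]; push_cast; ring) h h'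
    have sa : t ∣ q - 1 → ¬ t ∣ q + 1 := fun h h' => by
      rw [show q + 1 = q - 1 + 2 by omega] at h'
      exact t2 ((Nat.dvd_add_right h).1 h')
    by_cases c1 : t ∣ q - 1
    · exact ⟨r14, r18, _, _, (h14 _ p14).1, (h18 _ p18).1, (h14 _ p14).2, (h18 _ p18).2, n4, by nlinarith, key hg2 (sa c1) (s14 c1),
        key hg2 (sa c1) (s18 c1)⟩
    by_cases c2 : t ∣ q + 1
    · exact ⟨r7, r9, _, _, (h7 _ p7).1, (h9 _ p9).1, (h7 _ p7).2, (h9 _ p9).2, n1, by nlinarith, key hg1 c1 (a7 c2), key hg1 c1 (a9 c2)⟩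
    by_cases c7 : t ∣ N7
    · exact ⟨r9, r14, _, _, (h9 _ p9).1, (h14 _ p14).1, (h9 _ p9).2, (h14 _ p14).2, n3, by nlinarith, key hg1 c1 (b1 c7), key hg2 c2 (b2 c7)⟩
    by_cases c9 : t ∣ N9
    · exact ⟨r7, r14, _, _, (h7 _ p7).1, (h14 _ p14).1, (h7 _ p7).2, (h14 _ p14).2, n2, by nlinarith, key hg1 c1 c7, key hg2 c2 (b3 c9)⟩
    · exact ⟨r7, r9, _, _, (h7 _ p7).1, (h9 _ p9).1, (h7 _ p7).2, (h9 _ p9).2, n1, by nlinarith, key hg1 c1 c7, key hg1 c1 c9⟩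

end E7

end Cfsg.Agent.H779.Dg
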