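import Cfsg.Agent.H851.Dg.Big
import Cfsg.Agent.H190.Exc.RowE6

/-!
# S5734: subgroups of exceptional groups containing all cyclic Sylow subgroups, the engine (helper779)

* `CFull T R` : `|R|` is divisible by all prime powers `u ^ j` dividing `|T|`, `u` a prime with cyclic Sylow subgroups
  (the negation of `MissC R`);
* `cycP_of_cc` : cyclic centralisers give cyclic Sylow subgroups;
* `engine` : there is a constant `C` such that a subgroup `R` of a group `T` of degree `≤ 248` in characteristic `p`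
  without solvable normal subgroups, with enough primes with cyclic centralisers, has a simple normal subgroup
  with trivial centraliser which is of Lie type in characteristic `p`, or `|R| ≤ C`.
-/

set_option autoImplicit false

namespace Cfsg.Agent.H779.Dg

open Cfsg Cfsg.Agent.OrdDiv Cfsg.Agent.H436 Cfsg.Agent.H915.GN Cfsg.Agent.H264.FKS Cfsg.Agent.H902
  Cfsg.Agent.H902.Names Cfsg.Agent.H290.ElReg Cfsg.Agent.H290.ElTab Cfsg.Agent.H290.ElCross Cfsg.Agent.H290.ElEng
  Cfsg.Agent.H290.ElRich Cfsg.Agent.H190.Exc Cfsg.Agent.H851.Dg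

/-- `|R|` is divisible by the prime powers dividing `|T|`, for the primes with cyclic Sylow subgroups -/
def CFull (T : Type*) [Group T] (R : Subgroup T) : Prop :=
  ∀ u j, Nat.Prime u → 1 ≤ j → u ^ j ∣ Nat.card T → CycP u T → u ^ j ∣ Nat.card R

theorem missC_of_not {T : Type*} [Group T] {R : Subgroup T} (h : ¬ CFull T R) : MissC R := by
  unfold CFull at h
  push Not at h
  obtain ⟨u, j, h1, h2, h3, h4, h5⟩ := h
  exact ⟨u, j, h1, h2, h3, h5, h4⟩

/-- cyclic centralisers give cyclic Sylow subgroups -/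
theorem cycP_of_cc {T : Type*} [Group T] [Finite T] {u : ℕ} (hu : u.Prime) (h : CC T u) : CycP u T := by
  intro P hP
  have := Fact.mk hu
  rcases subsingleton_or_nontrivial P with hs | hn
  · exact isCyclic_of_subsingleton
  · have hZ : Nontrivial (Subgroup.center P) := hP.center_nontrivial
    have hZr : u ∣ Nat.card (Subgroup.center P) := by
      obtain ⟨k, hk⟩ := IsPGroup.iff_card.1 (hP.to_subgroup (Subgroup.center P))
      rw [hk]
      refine dvd_pow_self u ?_
      rintro rfl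
      rw [pow_zero] at hk
      exact (Finite.one_lt_card_iff_nontrivial.2 hZ).ne' hk
    obtain ⟨z, hz⟩ := exists_prime_orderOf_dvd_card' u hZr
    have hzc := Subgroup.mem_center_iff.1 z.2
    have hz0 : orderOf ((z : P) : T) = u := by rw [Subgroup.orderOf_coe, Subgroup.orderOf_coe, hz]
    have hle : P ≤ Subgroup.centralizer ({((z : P) : T)} : Set T) := by
      intro x hx
      rw [Subgroup.mem_centralizer_singleton_iff]
      exact congrArg Subtype.val (hzc ⟨x, hx⟩)
    have h1 := h _ hz0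
    exact isCyclic_of_injective (Subgroup.inclusion hle) (Subgroup.inclusion_injective hle)

/-- the prime divisors in `R` -/
theorem CFull.dvd {T : Type*} [Group T] [Finite T] {R : Subgroup T} (h : CFull T R) {r : ℕ} (hr : r.Prime)
    (hd : r ∣ Nat.card T) (hc : CC T r) : r ∣ Nat.card R := by
  have := h r 1 hr le_rfl (by rwa [pow_one]) (cycP_of_cc hr hc)
  rwa [pow_one] at this

theorem CFull.pow {T : Type*} [Group T] [Finite T] {R : Subgroup T} (h : CFull T R) {r j : ℕ} (hr : r.Prime)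
    (hd : r ^ j ∣ Nat.card T) (hc : CC T r) : r ^ j ∣ Nat.card R := by
  rcases Nat.eq_zero_or_pos j with rfl | hj
  · simp
  · exact h r j hr hj hd (cycP_of_cc hr hc)

/-- a divisor of `m |T|` all of whose prime divisors have cyclic centralisers -/
theorem CFull.part {T : Type*} [Group T] [Finite T] {R : Subgroup T} (h : CFull T R) {N m k : ℕ} (hN : N ∣ m * Nat.card T)
    (hp : ∀ r : ℕ, r.Prime → r ∣ N → (¬ r ∣ m ∧ CC T r) ∨ (r = k ∧ ¬ r ^ 2 ∣ N)) (hm : m ≠ 0) (hk : k ≠ 0) :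
    N ∣ k * Nat.card R := by
  have hT : Nat.card T ≠ 0 := Nat.card_pos.ne'
  have hR : Nat.card R ≠ 0 := Nat.card_pos.ne'
  have hN0 : N ≠ 0 := fun h0 => by
    rw [h0, zero_dvd_iff] at hN
    exact (Nat.mul_ne_zero hm hT) hN
  rw [← Nat.factorization_le_iff_dvd hN0 (Nat.mul_ne_zero hk hR)]
  intro r
  by_cases hr : r.Prime ∧ r ∣ N
  · obtain ⟨hr, hrN⟩ := hr
    rcases hp r hr hrN with ⟨h1, h2⟩ | ⟨rfl, h1⟩
    · have h3 : r ^ N.factorization r ∣ Nat.card T :=
        ((Nat.Prime.coprime_iff_not_dvd hr).2 h1 |>.pow_left _).dvd_of_dvd_mul_left ((Nat.ordProj_dvd N r).trans hN)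
      have h4 := h.pow hr h3 h2
      have h5 : r ^ N.factorization r ∣ k * Nat.card R := h4.mul_left _
      exact (hr.pow_dvd_iff_le_factorization (Nat.mul_ne_zero hk hR)).1 h5
    · have h2 : N.factorization r ≤ 1 := by
        by_contra hcon
        exact h1 ((hr.pow_dvd_iff_le_factorization hN0).2 (by omega))
      have h3 : 1 ≤ (r * Nat.card R).factorization r :=
        (hr.dvd_iff_one_le_factorization (Nat.mul_ne_zero hk hR)).1 (Dvd.intro _ rfl)
      exact h2.trans h3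
  · have h1 : N.factorization r = 0 := by
      rw [Nat.factorization_eq_zero_iff]
      by_cases h2 : r.Prime
      · exact Or.inr (Or.inl fun h3 => hr ⟨h2, h3⟩)
      · exact Or.inl h2
    rw [h1]
    exact Nat.zero_le _

/-- an absolute bound for the orders of the simple groups in the tables -/
theorem exists_bound : ∃ N0 : ℕ, 1 ≤ N0 ∧
    (∀ x ∈ reg 248, (x.2.1 ^ x.2.2) ^ Art.NN x.1 * Art.num x.1 (x.2.1 ^ x.2.2) ≤ N0) ∧ ∀ x ∈ spor, x.2 ≤ N0 := by
  refine ⟨1 + ((reg 248).map fun x => (x.2.1 ^ x.2.2) ^ Art.NN x.1 * Art.num x.1 (x.2.1 ^ x.2.2)).sum +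
    (spor.map fun x => x.2).sum, by omega, fun x hx => ?_, fun x hx => ?_⟩
  · have h1 := List.le_sum_of_mem (List.mem_map_of_mem
      (f := fun x : Art.Sh × ℕ × ℕ => (x.2.1 ^ x.2.2) ^ Art.NN x.1 * Art.num x.1 (x.2.1 ^ x.2.2)) hx)
    have h2 : (x.2.1 ^ x.2.2) ^ Art.NN x.1 * Art.num x.1 (x.2.1 ^ x.2.2) ≤ _ := h1
    omega
  · have h1 := List.le_sum_of_mem (List.mem_map_of_mem (f := fun x : Grp × ℕ => x.2) hx)
    have h2 : x.2 ≤ _ := h1
    omega

theorem card_aut_le {S : Type*} [Group S] [Finite S] {N : ℕ} (hN : 1 ≤ N) (h : Nat.card S ≤ N) :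
    Nat.card (MulAut S) ≤ N ^ N := by
  have h1 : Nat.card (MulAut S) ≤ Nat.card (S → S) :=
    Nat.card_le_card_of_injective (fun e : MulAut S => (e : S → S)) DFunLike.coe_injective
  rw [Nat.card_fun] at h1
  exact h1.trans ((Nat.pow_le_pow_left h _).trans (Nat.pow_le_pow_right hN h))

theorem dd_pos {X : Art.Sh} {p f : ℕ} (h : Art.Ok X p f) : 0 < Art.dd X (p ^ f) := by
  cases X with
  | L n => exact Nat.gcd_pos_of_pos_left _ (by have := h.1; omega)
  | C m => exact Nat.gcd_pos_of_pos_left _ (by norm_num)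
  | U n => exact Nat.gcd_pos_of_pos_left _ (by have := h.1; omega)
  | D m => exact Nat.gcd_pos_of_pos_left _ (by norm_num)
  | DD m => exact Nat.gcd_pos_of_pos_left _ (by norm_num)
  | E6 => exact Nat.gcd_pos_of_pos_left _ (by norm_num)
  | E7 => exact Nat.gcd_pos_of_pos_left _ (by norm_num)
  | TE6 => exact Nat.gcd_pos_of_pos_left _ (by norm_num)
  | _ => exact one_pos

/-- **The engine.** -/
theorem engine : ∃ C : ℕ, ∀ (_ : OrderTable.{0})
    (_ : ∀ (X : Type) [Group X] [Finite X] [IsSimpleGroup X], IsKnownSimple' X) (_ : ASThm.{0})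
    (_ : RichFix.{0}) {n : ℕ} (_ : n ≤ 248) {p : ℕ} (_ : p.Prime) {F : Type} [Field F] [CharP F p] {T : Type} [Group T]
    [Finite T] (_ : Fth n F T) {R : Subgroup T} {P : ℕ → Prop} (_ : ∀ r, P r → r.Prime ∧ r ∣ Nat.card R ∧ CC T r)
    (_ : ∃ r s, P r ∧ P s ∧ 5 ≤ r ∧ r + 4 ≤ s) {r₀ : ℕ} (_ : r₀.Prime) (_ : r₀ ≠ 2) (_ : r₀ ∣ Nat.card R)
    (_ : ∀ g : T, orderOf g ≠ 2 * r₀) (_ : ∀ N : Subgroup R, N.Normal → Group.IsSolvable N → N = ⊥),
    ∃ S : Subgroup R, S.Normal ∧ IsSimpleGroup S ∧ ¬ IsMulCommutative S ∧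
      Subgroup.centralizer (S : Set R) = ⊥ ∧ (∀ r, P r → r ∣ Nat.card S) ∧
      ∃ g, IsNamed g S ∧ (HasChar p g ∨ Nat.card R ≤ C) := by
  obtain ⟨N0, hN1, hreg, hspor⟩ := exists_bound
  refine ⟨N0 ^ N0, ?_⟩
  intro OT' hS0 has hrf n hn p hp F _ _ T _ _ hF R P hcc halt r₀ hr₀ hr2 hrR hodd hrad
  have h2 : 2 ∣ Nat.card R := by
    by_contra h2
    have hsol : Group.IsSolvable R :=
      Cfsg.Agent.S0205.result (Nat.not_even_iff_odd.1 fun h3 => h2 (even_iff_two_dvd.1 h3))
    have h3 := hrad ⊤ inferInstance (Group.isSolvable_of_isSolvable_injective (f := (⊤ : Subgroup R).subtype)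
      (Subgroup.subtype_injective _))
    have h4 : Nat.card (⊤ : Subgroup R) = 1 := by rw [h3]; simp
    rw [Subgroup.card_top] at h4
    rw [h4] at hrR
    exact hr₀.one_lt.ne' (Nat.dvd_one.1 hrR)
  obtain ⟨S, hSn, hSs, hSna, hSc⟩ := exists_socle has hrad h2 hr₀ hr2 hrR fun g hg =>
    hodd (g : T) (by rw [Subgroup.orderOf_coe, hg])
  have hccR : ∀ r, P r → r ∣ Nat.card S := by
    intro r hr
    obtain ⟨h3, h4, h5⟩ := hcc r hr
    refine dvd_socle_rich hrf hSn hSs hSna h3 h4 fun x hx => ?_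
    exact nilp_of_cyc (CC.of_inj (ι := R.subtype) R.subtype_injective h5 x hx)
  refine ⟨S, hSn, hSs, hSna, hSc, hccR, ?_⟩
  obtain ⟨g, hg⟩ := exists_named OT' (hS0 S) fun h => hSna ⟨⟨h⟩⟩
  refine ⟨g, hg, ?_⟩
  have key : Nat.card S ≤ N0 → Nat.card R ≤ N0 ^ N0 := fun h =>
    (Nat.le_of_dvd Nat.card_pos (card_dvd_aut hSc)).trans (card_aut_le hN1 h)
  rcases named_cases hg.cond with ⟨l, hl, hch⟩ | ⟨m, hm, rfl⟩ | ⟨x, hx, rfl⟩
  · by_cases hlp : l = p
    · exact Or.inl (hlp ▸ hch)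
    · right
      obtain ⟨X, a, h3, h4, -⟩ := exists_lie hl hg hch
      apply key
      have h5 : lb X (l ^ a) ≤ n := by
        refine lb_le (fun hcc' => hSna ⟨⟨hcc'⟩⟩) hn (hF.sub ((R.subtype).comp S.subtype)
          (R.subtype_injective.comp S.subtype_injective)) h3 hg.real h4 (fun h0 => hlp ?_)
        exact ((Nat.prime_dvd_prime_iff_eq hp hl).1 ((CharP.cast_eq_zero_iff F p l).1 h0)).symm
      obtain ⟨hl', ha, hok, heq⟩ := h4
      have h6 := hreg _ (mem_reg le_rfl hl' ha hok (h5.trans hn))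
      refine le_trans ?_ h6
      rw [← heq]
      exact Nat.le_mul_of_pos_left _ (dd_pos hok)
  · exfalso
    obtain ⟨e⟩ := hg.real
    obtain ⟨r, s, hr, hs, h5, hrs⟩ := halt
    obtain ⟨h3, -, h6⟩ := hcc r hr
    refine not_alt h3 (hcc s hs).1 h5 hrs (by omega) e (hccR r hr) (hccR s hs) fun x hx => ?_
    exact nilp_of_cyc (CC.of_inj (ι := (R.subtype).comp S.subtype)
      (R.subtype_injective.comp S.subtype_injective) h6 x hx)
  · right
    apply key
    rw [OT'.spor S x hx hg.real]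
    exact hspor x hx

end Cfsg.Agent.H779.Dg
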